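-- copy of `Loc.SW1` avoiding a name clash (`Comp.syl_inf`) with `Sig.S4D`
/-
A dihedral group of order eight acting on `V ⊕ V*` (the quotient `2⁶` of `2^{1+6}` in `L₅(2)`) normalizes
no automorphism group of odd order.
-/
import Cfsg.Agent.NCy.LocBK2
set_option autoImplicit false
set_option linter.unusedSectionVars false
set_option maxRecDepth 100000

namespace CF.SW
open Subgroup Cfsg CF.BG CF.Sig CF.GW CF.Ab2 CF.Cl2

/-- sum of vectors -/
def xv (i j : Fin 64) : Fin 64 := Fin.ofNat 64 (i.1 ^^^ j.1)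
/-- product in the dihedral group -/
def dm (j k : Fin 8) : Fin 8 := Fin.ofNat 8 (j.1 ^^^ k.1 ^^^ 4 * (j.1 % 2 * (k.1 / 2 % 2)))
/-- the action -/
def ac (j : Fin 8) (i : Fin 64) : Fin 64 := Fin.ofNat 64 (i.1 ^^^ 2 * (j.1 % 2 * (i.1 % 2)) ^^^
  4 * ((j.1 / 2 % 2 * (i.1 / 2 % 2) + (j.1 / 4 + j.1 % 2 * (j.1 / 2 % 2)) * (i.1 % 2)) % 2) ^^^
  8 * ((j.1 % 2 * (i.1 / 16 % 2) + j.1 / 4 * (i.1 / 32)) % 2) ^^^ 16 * (j.1 / 2 % 2 * (i.1 / 32)))
/-- commutators -/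
def cx (j : Fin 8) (i : Fin 64) : Fin 64 := xv (ac j i) i

theorem xv_f : ∀ i j, xv i j = xv j i ∧ (xv i j = 0 ↔ i = j) := by decide +kernel
theorem ac_dm : ∀ j k i, ac (dm j k) i = ac j (ac k i) := by decide +kernel
theorem ac_0 : ∀ j, (∀ i, ac j i = i) ↔ j = 0 := by decide +kernel
theorem ac_q : ∀ j k, j ≠ 0 → k ≠ 0 → j ≠ k → dm j j = 0 → dm k k = 0 → dm j k = dm k j →
    (∀ i, ac j (cx k i) = cx k i) ∧ ∀ a b, cx j a = cx (dm j k) b → ∃ c, cx j a = cx k c := by decide +kernel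
theorem ac_l : ∀ a b, (cx 1 a = cx 4 b → cx 1 a = 0 ∨ cx 1 a = 8) ∧ (cx 2 a = cx 4 b → cx 2 a = 0 ∨ cx 2 a = 4) := by
  decide +kernel
theorem ac_c : ∀ a, cx 1 a = 0 → cx 2 a = 0 → a = 0 ∨ a = 4 ∨ a = 8 ∨ a = xv 4 8 := by decide +kernel
theorem ac_n : ∀ a, ∀ j ∈ [1, 2], ∀ k ∈ [1, 2], ∀ l ∈ [1, 2], cx l (cx k (cx j a)) = 0 := by decide +kernel

section
variable {B : Type*} [CommGroup B] [Finite B] {X W U : MulAut B} {a b : B}

theorem fix_of_sq (o : Odd (orderOf X)) (h : X b = X⁻¹ b) : X b = b := by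
  have k : X * X ∈ MulAction.stabilizer (MulAut B) b := by
    show X (X b) = b
    rw [h]; simp
  exact mem_of_sq_mem o k

theorem one_of_fix (sq : ∀ b : B, b * b = 1) (o : Odd (orderOf X)) (h : X (X a * a) = X a * a) :
    X a * a = 1 := by
  have k : ∀ n, (X ^ n) a = a * (X a * a) ^ n := fun n => by
    induction n with
    | zero => simp
    | succ n ih =>
      rw [pow_succ', MulAut.mul_apply, ih, map_mul, map_pow, h, pow_succ', ← mul_assoc, mul_comm (X a) a,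
        ← mul_assoc, sq, one_mul]
  have := k (orderOf X)
  obtain ⟨m, e⟩ := o
  rw [pow_orderOf_eq_one, e, pow_succ, pow_mul, pow_two, sq, one_pow, one_mul] at this
  exact (mul_eq_left.1 this.symm)

theorem eq_of_mul (sq : ∀ b : B, b * b = 1) (h : a * b = 1) : a = b :=
  mul_right_cancel (h.trans (sq b).symm)

theorem inv_triv (sq : ∀ b : B, b * b = 1) (o : Odd (orderOf X)) (hU : X * U = U * X)
    (hW : W * X * W⁻¹ = X⁻¹) (WW : W * W = 1) (q1 : ∀ a, W (U a * a) = U a * a)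
    (q2 : ∀ a, U (W a * a) = W a * a) (q3 : ∀ a b, W a * a = W (U b) * b → ∃ c, W a * a = U c * c) :
    X = 1 := by
  have wx : ∀ a, W (X a) = X⁻¹ (W a) := fun a => by rw [← hW]; simp
  have ux : ∀ a, U (X a) = X (U a) := fun a => by rw [← MulAut.mul_apply, ← hU]; rfl
  have ww : ∀ a, W (W a) = a := fun a => by rw [← MulAut.mul_apply, WW]; rfl
  have f1 : ∀ c, X (U c * c) = U c * c := fun c => fix_of_sq o (by
    rw [← q1 c, ← wx, q1, map_mul, ← ux, q1])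
  let D : B →* B := MonoidHom.mk' (fun a => X a * a) fun a b => by rw [map_mul, mul_mul_mul_comm]
  have f2 : ∀ c ∈ D.range, X c = c → c = 1 := by
    rintro _ ⟨a, rfl⟩ h; exact one_of_fix sq o h
  have mX : ∀ c ∈ D.range, X c ∈ D.range := by
    rintro _ ⟨a, rfl⟩; exact ⟨X a, (map_mul X ..).symm⟩
  have mW : ∀ c ∈ D.range, W c ∈ D.range := by
    rintro _ ⟨a, rfl⟩
    exact ⟨X⁻¹ (W a), by show X _ * _ = W (X a * a); rw [map_mul, wx, mul_comm]; simp⟩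
  have mU : ∀ c ∈ D.range, U c ∈ D.range := by
    rintro _ ⟨a, rfl⟩
    exact ⟨U a, by show X _ * _ = U (X a * a); rw [map_mul, ux]⟩
  have sj : Function.Surjective fun c : D.range => (⟨D c, c, rfl⟩ : D.range) :=
    Finite.surjective_of_injective fun c d e => by
      have : D (c * d) = 1 := by rw [map_mul, show D c = D d from congrArg Subtype.val e, sq]
      exact Subtype.ext (eq_of_mul sq (f2 _ (mul_mem c.2 d.2) (eq_of_mul sq this)))
  have f3 : ∀ b ∈ D.range, W b = b := fun b hb => by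
    obtain ⟨⟨c, hc⟩, e⟩ := sj ⟨W b * b, mul_mem (mW b hb) hb⟩
    have e : X c * c = W b * b := congrArg Subtype.val e
    have e1 : W (U (X c * c)) = X c * c := by rw [e, q2, map_mul, ww, mul_comm]
    rw [map_mul, map_mul, ux, wx] at e1
    have e2 : W (U c) * X c = 1 := f2 _ (mul_mem (mW _ (mU c hc)) (mX c hc)) (by
      have : X⁻¹ (W (U c) * X c) = W (U c) * X c := eq_of_mul sq (by
        rw [map_mul, MulAut.inv_apply_self, mul_mul_mul_comm, e1, mul_comm c, sq])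
      rw [← this, MulAut.apply_inv_self, this])
    obtain ⟨d, e3⟩ := q3 b c (by rw [← e, eq_of_mul sq e2])
    exact eq_of_mul sq (f2 _ (mul_mem (mW b hb) hb) (by rw [e3, f1]))
  refine MulEquiv.ext fun a => ?_
  have hb : X a * a ∈ D.range := ⟨a, rfl⟩
  show X a = a
  exact eq_of_mul sq (f2 _ hb (fix_of_sq o (by rw [← f3 _ (mX _ hb), wx, f3 _ hb])))

end

theorem odd_triv {B : Type*} [Group B] [Finite B] {β : Fin 64 → B} (hb : Function.Bijective β)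
    (hm : ∀ i j, β i * β j = β (xv i j)) {τ : Fin 8 → MulAut B} (ht : ∀ j i, τ j (β i) = β (ac j i))
    {Y : Subgroup (MulAut B)} (o : Odd (♯Y)) (n : ∀ j, τ j ∈ 𝐍 Y) : Y = ⊥ := by
  have hc : ∀ a b : B, a * b = b * a := fun a b => by
    obtain ⟨i, rfl⟩ := hb.2 a
    obtain ⟨j, rfl⟩ := hb.2 b
    rw [hm, hm, (xv_f i j).1]
  letI : CommGroup B := { ‹Group B› with mul_comm := hc }
  have b0 : β 0 = 1 := mul_eq_left.1 (hm 0 0)
  have sq : ∀ b : B, b * b = 1 := fun b => by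
    obtain ⟨i, rfl⟩ := hb.2 b
    rw [hm, (xv_f i i).2.2 rfl, b0]
  have tm : ∀ j k, τ j * τ k = τ (dm j k) := fun j k => MulEquiv.ext fun b => by
    obtain ⟨i, rfl⟩ := hb.2 b
    rw [MulAut.mul_apply, ht, ht, ht, ac_dm]
  have t1 : ∀ j, τ j = 1 ↔ j = 0 := fun j => by
    rw [← ac_0]
    refine ⟨fun e i => hb.1 (by rw [← ht, e]; rfl), fun e => MulEquiv.ext fun b => ?_⟩
    obtain ⟨i, rfl⟩ := hb.2 b
    rw [ht, e]; rfl
  have tc : ∀ j i, τ j (β i) * β i = β (cx j i) := fun j i => by rw [ht, hm]; rfl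
  have iv : ∀ {j}, j ≠ 0 ∧ dm j j = 0 → Iv (τ j) := fun h =>
    .mk' (mt (t1 _).1 h.1) (by rw [tm, h.2, (t1 0).2 rfl])
  have s1 : ∀ j k, j ≠ 0 ∧ k ≠ 0 ∧ j ≠ k ∧ dm j j = 0 ∧ dm k k = 0 ∧ dm j k = dm k j →
      Y ⊓ 𝐂₁ (τ k) ≤ 𝐂₁ (τ j) := fun j k ⟨h1, h2, h3, h4, h5, h6⟩ x hx => by
    have c : τ j ∈ 𝐂₁ (τ k) := mem_cent1.2 (by rw [tm, tm, h6])
    obtain ⟨y, hy, e, c, hc, rfl⟩ := exists_inv_mul (iv ⟨h1, h4⟩)
      (norm_inf (zpowers_le.2 (n j)) (norm_of_le (zpowers_le.2 c)) (mem_zpowers _)) (odd_le o inf_le_left) hx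
    obtain ⟨k1, k2⟩ := ac_q j k h1 h2 h3 h4 h5 h6
    rw [inv_triv sq (o.of_dvd_nat (Y.orderOf_dvd_natCard hy.1)) (mem_cent1.1 hy.2) e (iv ⟨h1, h4⟩).sq
      (fun a => ?_) (fun a => ?_) fun a b q => ?_, one_mul]
    · exact hc.2
    · obtain ⟨i, rfl⟩ := hb.2 a
      rw [tc, ht, k1]
    · obtain ⟨i, rfl⟩ := hb.2 a
      rw [tc, ht, (ac_q k j h2 h1 h3.symm h5 h4 h6.symm).1]
    · obtain ⟨i, rfl⟩ := hb.2 a
      obtain ⟨l, rfl⟩ := hb.2 b
      rw [← MulAut.mul_apply, tm, tc, tc] at q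
      obtain ⟨c, e⟩ := k2 i l (hb.1 q)
      exact ⟨β c, by rw [tc, tc, e]⟩
  have s2 : ∀ j ∈ [1, 2], Y ≤ 𝐂₁ (τ j) ⊓ 𝐂₁ (τ 4) := fun j hj => by
    have d : j ≠ 0 ∧ j ≠ 4 ∧ dm j j = 0 ∧ dm j 4 = dm 4 j ∧ dm j 4 ≠ 0 ∧ j ≠ dm j 4 ∧
      dm (dm j 4) (dm j 4) = 0 ∧ dm j (dm j 4) = dm (dm j 4) j ∧ dm j (dm j 4) = 4 := by
      revert j; decide
    obtain ⟨d1, d2, d3, d4, d5, d6, d7, d8, d9⟩ := d
    have f : FP (τ j) (τ 4) := ⟨iv ⟨d1, d3⟩, iv (by decide), by rw [tm, tm, d4], fun e => d5 ((t1 _).1 (by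
      rw [← tm, e, tm]; exact (t1 0).2 rfl))⟩
    refine f.le_of_cent (n j) (n 4) o
      (le_inf inf_le_right (s1 4 j ⟨by decide, d1, d2.symm, rfl, d3, d4.symm⟩))
      (le_inf (s1 j 4 ⟨d1, by decide, d2, d3, rfl, d4⟩) inf_le_right) fun x hx => ?_
    rw [tm] at hx
    have := s1 j _ ⟨d1, d5, d6, d3, d7, d8⟩ hx
    exact mi this (by rw [← d9, ← tm]; exact cent1_mul_of this hx.2)
  refine eq_bot_of_forall fun y hy => ?_
  have cm : ∀ j ∈ [1, 2, 4], ∀ a, y (τ j a * a) = τ j (y a) * y a := fun j hj a => by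
    have : y ∈ 𝐂₁ (τ j) := by
      simp only [List.mem_cons, List.not_mem_nil, or_false] at hj
      rcases hj with rfl | rfl | rfl
      exacts [(s2 1 (by simp) hy).1, (s2 2 (by simp) hy).1, (s2 2 (by simp) hy).2]
    rw [map_mul, ← MulAut.mul_apply, mem_cent1.1 this]; rfl
  have l : ∀ j ∈ [1, 2, 4], ∀ a b c, c ≠ 0 ∧ cx j a = c ∧ cx 4 b = c →
      (∀ a b, cx j a = cx 4 b → cx j a = 0 ∨ cx j a = c) → y (β c) = β c := fun j hj a b c ⟨c0, e1, e2⟩ h => by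
    obtain ⟨a', ea⟩ := hb.2 (y (β a))
    obtain ⟨b', eb⟩ := hb.2 (y (β b))
    have k1 := cm j hj (β a)
    have k2 := cm 4 (by simp) (β b)
    rw [tc, e1, ← ea, tc] at k1
    rw [tc, e2, ← eb, tc] at k2
    rcases h a' b' (hb.1 (k1.symm.trans k2)) with q | q <;> rw [q] at k1
    · exact absurd (hb.1 (((map_eq_one_iff y y.injective).1 (k1.trans b0)).trans b0.symm)) c0
    · exact k1
  have l1 := l 1 (by simp) 16 32 8 (by decide) fun a b => (ac_l a b).1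
  have l2 := l 2 (by simp) 2 1 4 (by decide) fun a b => (ac_l a b).2
  have y0 : y (β 0) = β 0 := by rw [b0, map_one]
  have st : ∀ i, (∀ j ∈ [1, 2], y (β (cx j i)) = β (cx j i)) → y (β i) = β i := fun i h => by
    obtain ⟨c, e⟩ := hb.2 (y (β i) * β i)
    have k : ∀ j ∈ [1, 2], cx j c = 0 := fun j hj => hb.1 (by
      rw [← tc, e, map_mul, mul_mul_mul_comm, ← cm j (by revert j; decide), tc, h j hj, sq, b0])
    refine eq_of_mul sq (one_of_fix sq (o.of_dvd_nat (Y.orderOf_dvd_natCard hy)) ?_)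
    rw [← e]
    rcases ac_c c (k 1 (by simp)) (k 2 (by simp)) with rfl | rfl | rfl | rfl
    exacts [y0, l2, l1, by rw [← hm, map_mul, l1, l2]]
  refine MulEquiv.ext fun a => ?_
  obtain ⟨i, rfl⟩ := hb.2 a
  exact st i fun j hj => st _ fun k hk => st _ fun l hl => by rw [ac_n i j hj k hk l hl, y0]

end CF.SW
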