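-- copy of `Loc.HL2` avoiding a name clash (`Comp.syl_inf`) with `Sig.S4D`
/-
Groups with dihedral Sylow 2-subgroups of order eight acting on `V ⊕ V*`.
-/
import Cfsg.Agent.TmX.SW1
import Cfsg.Agent.S3035
set_option autoImplicit false
set_option linter.unusedSectionVars false
set_option maxRecDepth 100000
set_option synthInstance.maxSize 100000
set_option synthInstance.maxHeartbeats 400000

namespace CF.HL
open Subgroup Cfsg CF.BG CF.Sig CF.GW CF.Ab2 CF.Cl2 CF.SW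

/-- a four-group in the dihedral group -/
abbrev F4 (j k : Fin 8) : Prop := j ≠ 0 ∧ k ≠ 0 ∧ j ≠ k ∧ dm j j = 0 ∧ dm k k = 0 ∧ dm j k = dm k j

theorem f4_c : ∀ j k, F4 j k → ∃ c ∈ [4, 8], (∀ l ∈ [j, k, dm j k], ∃ a, cx l a = c) ∧
    ∀ l ∈ [j, k, dm j k], ∀ m ∈ [j, k, dm j k], l ≠ m → ∀ a b, cx l a = cx m b → cx l a = 0 ∨ cx l a = c := by
  decide +kernel

theorem f4_f : ∀ j k, F4 j k → dm k (dm j k) = j ∧ j ≠ dm j k ∧ k ≠ dm j k ∧
    ∀ i, ac j i = i → ac k i = i → ∃ l ∈ [j, k, dm j k], ∃ a, cx l a = i := by decide +kernel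

/-- coordinates for the dihedral group -/
def dI : DihedralGroup 4 → Fin 8
  | .r i => ![0, 3, 4, 7] i
  | .sr i => ![1, 6, 5, 2] i

theorem dI_f : (∀ x y, dI (x * y) = dm (dI x) (dI y)) ∧ (∀ x, dI x = 0 → x = 1) ∧ ∀ j, ∃ x, dI x = j := by
  decide +kernel

variable {B H : Type*} [Group B] [Group H] [Finite B] [Finite H] {β : Fin 64 → B} {ρ : H →* MulAut B}
  {d : Fin 8 → H} {S Y : Subgroup H} {a b g x : H} {j k : Fin 8}

/-- the module -/
structure Md (β : Fin 64 → B) (ρ : H →* MulAut B) (d : Fin 8 → H) (S : Subgroup H) : Prop where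
  hb : Function.Bijective β
  hm : ∀ i j, β i * β j = β (xv i j)
  ht : ∀ j i, ρ (d j) (β i) = β (ac j i)
  inj : Function.Injective ρ
  syl : Syl 2 S ⊤
  mem : ∀ x, x ∈ S ↔ ∃ j, d j = x

namespace Md
variable (m : Md β ρ d S)
include m

theorem comm (a b : B) : a * b = b * a := by
  obtain ⟨i, rfl⟩ := m.hb.2 a
  obtain ⟨j, rfl⟩ := m.hb.2 b
  rw [m.hm, m.hm, (xv_f i j).1]

theorem b0 : β 0 = 1 := mul_eq_left.1 (m.hm 0 0)

theorem sq (b : B) : b * b = 1 := by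
  obtain ⟨i, rfl⟩ := m.hb.2 b
  rw [m.hm, (xv_f i i).2.2 rfl, m.b0]

theorem dmu (j k : Fin 8) : d j * d k = d (dm j k) := m.inj (MulEquiv.ext fun b => by
  obtain ⟨i, rfl⟩ := m.hb.2 b
  rw [map_mul, MulAut.mul_apply, m.ht, m.ht, m.ht, ac_dm])

theorem d0 : d 0 = 1 := mul_eq_left.1 (m.dmu 0 0)

theorem dinj : Function.Injective d := fun j k e =>
  (by decide +kernel : ∀ j k, (∀ i, ac j i = ac k i) → j = k) j k fun i => m.hb.1 (by rw [← m.ht, e, m.ht])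

theorem d1 : d j = 1 ↔ j = 0 := by rw [← m.d0, m.dinj.eq_iff]

theorem tc (j : Fin 8) (i : Fin 64) : ρ (d j) (β i) * β i = β (cx j i) := by rw [m.ht, m.hm]; rfl

theorem odd (o : Od Y) (n : S ≤ 𝐍 Y) : Y = ⊥ := (Subgroup.map_eq_bot_iff_of_injective _ m.inj).1
  (odd_triv m.hb m.hm m.ht (GW.odd_iff_pi.2 (o.map ρ)) fun j =>
    map_norm n ρ (mem_map_of_mem ρ ((m.mem _).2 ⟨j, rfl⟩)))

theorem into (f : FP a b) : ∃ g j k, F4 j k ∧ g * a * g⁻¹ = d j ∧ g * b * g⁻¹ = d k := by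
  obtain ⟨g, -, l⟩ := m.syl.syl_cj_le le_top f.pi
  obtain ⟨j, p⟩ := (m.mem _).1 (l (conj_mem_cj.2 (left_mem_V4 _ _)))
  obtain ⟨k, q⟩ := (m.mem _).1 (l (conj_mem_cj.2 (right_mem_V4 _ _)))
  have f := f.conj g
  rw [← p, ← q] at f
  exact ⟨g, j, k, ⟨mt m.d1.2 f.l.ne_one, mt m.d1.2 f.r.ne_one, fun e => f.ne (congrArg d e),
    m.d1.1 (m.dmu j j ▸ f.l.sq), m.d1.1 (m.dmu k k ▸ f.r.sq), m.dinj (by rw [← m.dmu, ← m.dmu, f.comm])⟩,
    p.symm, q.symm⟩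

theorem inv_one (f : FP a b) (o : Odd (orderOf x)) (h1 : x * b = b * x) (h2 : a * x * a⁻¹ = x⁻¹) : x = 1 := by
  obtain ⟨g, j, k, ⟨q1, q2, q3, q4, q5, q6⟩, p, q⟩ := m.into f
  letI : CommGroup B := { ‹Group B› with mul_comm := m.comm }
  obtain ⟨k1, k2⟩ := ac_q j k q1 q2 q3 q4 q5 q6
  refine conj_eq_one_iff.1 (show g * x * g⁻¹ = 1 from m.inj (Eq.trans (inv_triv (U := ρ (d k)) (W := ρ (d j)) m.sq
    (by rwa [orderOf_injective ρ m.inj, ← MulAut.conj_apply, MulEquiv.orderOf_eq]) ?_ ?_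
    (by rw [← map_mul, m.dmu, q4, m.d0, map_one]) (fun a => ?_) (fun a => ?_) fun a b q => ?_) (map_one ρ).symm))
  · rw [← map_mul, ← map_mul, ← q, conj_mul, conj_mul, h1]
  · rw [← map_inv, ← map_inv, ← map_mul, ← map_mul, ← p, conj_inv, conj_mul, conj_mul, h2, conj_inv]
  · obtain ⟨i, rfl⟩ := m.hb.2 a
    rw [m.tc, m.ht, k1]
  · obtain ⟨i, rfl⟩ := m.hb.2 a
    rw [m.tc, m.ht, (ac_q k j q2 q1 q3.symm q5 q4 q6.symm).1]
  · obtain ⟨i, rfl⟩ := m.hb.2 a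
    obtain ⟨l, rfl⟩ := m.hb.2 b
    rw [← MulAut.mul_apply, ← map_mul, m.dmu, m.tc, m.tc] at q
    obtain ⟨c, e⟩ := k2 i l (m.hb.1 q)
    exact ⟨β c, by rw [m.tc, m.tc, e]⟩

theorem cj_cx (e : g * d j * g⁻¹ = d k) (i : Fin 64) : ∃ l, ρ g (β (cx j i)) = β (cx k l) := by
  obtain ⟨l, q⟩ := m.hb.2 (ρ g (β i))
  refine ⟨l, ?_⟩
  rw [← m.tc, ← m.tc, q, map_mul, ← e, map_mul, map_mul, map_inv]; simp

/-- the normalizer of a four-group fixes a vector -/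
theorem fix (f : F4 j k) : ∃ c ∈ [4, 8], (∀ g, (∃ l ∈ [j, k, dm j k], g * d j * g⁻¹ = d l) →
    (∃ l ∈ [j, k, dm j k], g * d k * g⁻¹ = d l) → ρ g (β c) = β c) ∧
    ∀ l ∈ [j, k, dm j k], ∀ n ∈ [j, k, dm j k], l ≠ n → ∀ a b, cx l a = cx n b → cx l a = 0 ∨ cx l a = c := by
  obtain ⟨c, hc, k1, k2⟩ := f4_c j k f
  refine ⟨c, hc, fun g ⟨l, hl, p⟩ ⟨n, hn, q⟩ => ?_, k2⟩
  obtain ⟨a, e1⟩ := k1 j (by simp)
  obtain ⟨b, e2⟩ := k1 k (by simp)
  obtain ⟨a', e3⟩ := m.cj_cx p a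
  obtain ⟨b', e4⟩ := m.cj_cx q b
  rw [e1] at e3
  rw [e2] at e4
  rcases k2 l hl n hn (fun e => f.2.2.1 (m.dinj (by
    rw [← e, ← p, mul_left_inj, mul_right_inj] at q; exact q.symm))) a' b' (m.hb.1 (e3.symm.trans e4)) with r | r <;>
    rw [r] at e3
  · rw [m.b0, map_eq_one_iff _ (ρ g).injective, ← m.b0, m.hb.1.eq_iff] at e3
    exact absurd hc (by rw [e3]; decide)
  · exact e3

theorem card : Nat.card B = 64 := (Nat.card_congr (Equiv.ofBijective β m.hb)).symm.trans (Nat.card_fin _)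

theorem card_fix (f : FP a (g * a * g⁻¹)) (e : g * (g * a * g⁻¹) * g⁻¹ = a * (g * a * g⁻¹)) (g3 : g ^ 3 = 1) :
    Nat.card {b // ρ g b = b} = 4 := by
  obtain ⟨u, j, k, f, p, q⟩ := m.into f
  have c : Nat.card {b // ρ g b = b} = Nat.card {b // ρ (u * g * u⁻¹) b = b} :=
    Nat.card_congr ((ρ u).toEquiv.subtypeEquiv fun b => by simp)
  have e1 : u * g * u⁻¹ * d j * (u * g * u⁻¹)⁻¹ = d k := by rw [← p, ← q]; group
  have e2 : u * g * u⁻¹ * d k * (u * g * u⁻¹)⁻¹ = d (dm j k) := by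
    rw [← m.dmu, ← p, ← q]
    exact Eq.trans (by group) ((congrArg (u * · * u⁻¹) e).trans (by group))
  have g3 : (u * g * u⁻¹) ^ 3 = 1 := by rw [conj_pow, g3]; simp
  rw [c]
  generalize u * g * u⁻¹ = g at e1 e2 g3
  obtain ⟨f1, f2, f3, f4⟩ := f4_f j k f
  have e3 : g * d (dm j k) * g⁻¹ = d j := by rw [← m.dmu, ← conj_mul, e1, e2, m.dmu, f1]
  obtain ⟨c, hc, k1, k2⟩ := m.fix f
  let Y : Subgroup B := (ρ g).toMonoidHom.eqLocus (MonoidHom.id B)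
  have cY : β c ∈ Y := k1 g ⟨k, by simp, e1⟩ ⟨_, by simp, e2⟩
  have c1 : β c ≠ 1 := fun e => absurd hc (by rw [m.hb.1 (e.trans m.b0.symm)]; decide)
  have l : Y ⊓ Y.map (ρ (d j)).toMonoidHom ≤ zpowers (β c) := by
    rintro b ⟨h1, y, h2, h3⟩
    obtain ⟨i, rfl⟩ := m.hb.2 b
    let K := (MulAction.stabilizer (MulAut B) (β i)).comap ρ
    have m1 : g ∈ K := h1
    have m2 : d j * g * (d j)⁻¹ ∈ K := by
      show ρ _ (β i) = β i
      rw [← h3, map_mul, map_mul, map_inv]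
      have h2 : ρ g y = y := h2
      simp [h2]
    have m3 : d (dm j k) ∈ K := mem_of_eq (mul_mem m1 (inv_mem m2)) (by
      have i := inv_eq_of_mul_eq_one_left ((m.dmu j j).trans (f.2.2.2.1 ▸ m.d0))
      rw [f.2.2.2.2.2, ← m.dmu, ← e1, mul_inv_rev, mul_inv_rev, inv_inv, i]; group)
    have m4 : d j ∈ K := e3 ▸ mul_mem (mul_mem m1 m3) (inv_mem m1)
    have m5 : d k ∈ K := e1 ▸ mul_mem (mul_mem m1 m4) (inv_mem m1)
    obtain ⟨l, hl, a, rfl⟩ := f4 i (m.hb.1 ((m.ht ..).symm.trans m4)) (m.hb.1 ((m.ht ..).symm.trans m5))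
    obtain ⟨n, hn, ne, e⟩ : ∃ n ∈ [j, k, dm j k], l ≠ n ∧ g * d l * g⁻¹ = d n := by
      simp only [List.mem_cons, List.not_mem_nil, or_false] at hl
      rcases hl with rfl | rfl | rfl
      exacts [⟨_, by simp, f.2.2.1, e1⟩, ⟨_, by simp, f3, e2⟩, ⟨_, by simp, f2.symm, e3⟩]
    obtain ⟨b, e⟩ := m.cj_cx e a
    rcases k2 l hl n hn ne a b (m.hb.1 (Eq.trans (Eq.symm h1) e)) with r | r <;> rw [r]
    exacts [m.b0 ▸ one_mem _, mem_zpowers _]
  have i : Iv (β c) := .mk' c1 (m.sq _)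
  have c2 := card_sup_mul_card_inf (H := Y) (K := Y.map (ρ (d j)).toMonoidHom)
    (.inl fun a _ => mem_norm_of fun b hb => by rwa [m.comm a, mul_inv_cancel_right])
  have c3 := (card_le l).trans i.card.le
  have c4 := (card_le_card_group (Y ⊔ Y.map (ρ (d j)).toMonoidHom)).trans m.card.le
  have c5 := i.card.ge.trans (card_le (zpowers_le.2 cY))
  have c6 := (card_subgroup_dvd_card Y).trans m.card.dvd
  have c7 := (show IsPGroup 3 (zpowers (ρ g)) from (piElt_of_pow_eq_one Nat.prime_three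
    (by rw [← map_pow, g3, map_one])).zpowers.isPGroup).card_modEq_card_fixedPoints B
  rw [m.card, show Nat.card (MulAction.fixedPoints (zpowers (ρ g)) B) = ♯Y from Nat.card_congr
    (Equiv.subtypeEquivRight fun b => ⟨fun e => e ⟨_, mem_zpowers _⟩, fun e x =>
      (zpowers_le (H := MulAction.stabilizer (MulAut B) b)).2 e x.2⟩)] at c7
  rw [card_map (ρ (d j)).injective] at c2
  show ♯Y = 4
  have : ♯Y * ♯Y ≤ 128 := c2 ▸ Nat.mul_le_mul c4 c3
  have : ♯Y ≤ 11 := by nlinarith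
  generalize ♯Y = n at *
  interval_cases n <;> simp_all [Nat.ModEq]

theorem not_A6 (e : H ≃* alternatingGroup (Fin 6)) : False := by
  classical
  haveI := Fact.mk Nat.prime_three
  obtain ⟨K, hK⟩ := Sylow.exists_subgroup_card_pow_prime (G := H) 3 (n := 2) (by
    rw [Nat.card_congr e.toEquiv, nat_card_alternatingGroup, Nat.card_fin]; decide)
  letI := MulAction.compHom B (ρ.comp K.subtype)
  letI := Fintype.ofFinite K
  letI := Fintype.ofFinite B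
  have c := MulAction.sum_card_fixedBy_eq_card_orbits_mul_card_group K B
  have k : ∀ g ∈ (Finset.univ : Finset K).erase 1, Fintype.card (MulAction.fixedBy B g) = 4 := fun g hg => by
    have g9 : (e g).1 ^ 9 = 1 := by
      rw [← coe_pow, ← map_pow, ← coe_pow, show 9 = 3 ^ 2 from rfl, ← hK, pow_card_eq_one', coe_one, map_one, coe_one]
    obtain ⟨g3, a, a0, a1, a2, a3, a4⟩ := (by decide +kernel : ∀ σ : Equiv.Perm (Fin 6), σ ^ 9 = 1 → σ ≠ 1 →
      σ ^ 3 = 1 ∧ ∃ a : Equiv.Perm (Fin 6), Equiv.Perm.sign a = 1 ∧ a * a = 1 ∧ a ≠ 1 ∧ a ≠ σ * a * σ⁻¹ ∧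
        σ * (σ * a * σ⁻¹) * σ⁻¹ = a * (σ * a * σ⁻¹)) _ g9 fun q => (Finset.mem_erase.1 hg).1
          (Subtype.ext (e.injective (Subtype.ext (by simpa using q))))
    obtain ⟨a, rfl⟩ : ∃ x, (e x).1 = a := ⟨e.symm ⟨a, a0⟩, by simp⟩
    have tr : ∀ {x y}, x = y ↔ (e x).1 = (e y).1 := by simp
    have ia : Iv a := .mk' (fun q => a2 (by simp [q])) (tr.2 (by simpa using a1))
    have a4 : g.1 * (g.1 * a * g.1⁻¹) * g.1⁻¹ = a * (g.1 * a * g.1⁻¹) := tr.2 (by simpa using a4)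
    rw [← Nat.card_eq_fintype_card]
    refine m.card_fix (g := g.1) ⟨ia, ia.conj _, ?_, fun q => a3 (by simpa using tr.1 q)⟩ a4
      (tr.2 (by simpa using g3))
    have := ((ia.conj g.1).conj g.1).inv_eq
    rw [a4, mul_inv_rev, ia.inv_eq, (ia.conj _).inv_eq] at this
    exact this.symm
  rw [← Finset.add_sum_erase _ _ (Finset.mem_univ 1), Finset.sum_congr rfl k, Finset.sum_const,
    Finset.card_erase_of_mem (Finset.mem_univ 1), Finset.card_univ, ← Nat.card_eq_fintype_card (α := K), hK,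
    ← Nat.card_eq_fintype_card, MulAction.fixedBy_one_eq_univ, Nat.card_univ, m.card, smul_eq_mul] at c
  omega

theorem not_four (n : ∀ c ∈ [4, 8], ∃ g, ρ g (β c) ≠ β c) (f : FP a b) (N : (V4 a b).Normal) : False := by
  obtain ⟨u, j, k, f', p, q⟩ := m.into f
  obtain ⟨c, hc, k1, -⟩ := m.fix f'
  obtain ⟨g, hg⟩ := n c hc
  have f := f.conj u
  have e : V4 (d j) (d k) = V4 a b := by rw [← p, ← q, ← cj_V4, cj_of_norm (le_normalizer_of_normal (mem_top u))]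
  rw [p, q] at f
  have : ∀ {x}, x ∈ V4 (d j) (d k) → x ≠ 1 → ∃ l ∈ [j, k, dm j k], g * x * g⁻¹ = d l := fun hx x1 => by
    rcases f.mem.1 (e ▸ N.conj_mem _ (e ▸ hx) g) with r | r | r | r
    exacts [absurd (conj_eq_one_iff.1 r) x1, ⟨_, by simp, r⟩, ⟨_, by simp, r⟩, ⟨_, by simp, r.trans (m.dmu ..)⟩]
  exact hg (k1 g (this (left_mem_V4 _ _) f.l.ne_one) (this (right_mem_V4 _ _) f.r.ne_one))

theorem L3 (n : ∀ c ∈ [4, 8], ∃ g, ρ g (β c) ≠ β c) :
    Nonempty (H ≃* Matrix.SpecialLinearGroup (Fin 3) (ZMod 2)) := by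
  let f : DihedralGroup 4 →* H := MonoidHom.mk' (fun x => d (dI x)) fun x y => by rw [dI_f.1, m.dmu]
  have e : S ≃* DihedralGroup 4 := (MulEquiv.subgroupCongr (K := f.range) (Subgroup.ext fun x => (m.mem x).trans
    ⟨fun ⟨j, q⟩ => let ⟨y, r⟩ := dI_f.2.2 j; ⟨y, (congrArg d r).trans q⟩, fun ⟨y, q⟩ => ⟨_, q⟩⟩)).trans
    (MonoidHom.ofInjective ((injective_iff_map_eq_one f).2 fun x q => dI_f.2.1 x (m.d1.1 q))).symm
  have i : Iv (d 4) := .mk' (mt m.d1.1 (by decide)) ((m.dmu 4 4).trans m.d0)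
  have l : S ≤ 𝐂₁ (d 4) := fun x hx => by
    obtain ⟨j, rfl⟩ := (m.mem x).1 hx
    rw [mem_cent1, m.dmu, m.dmu, (by decide : ∀ j, dm j 4 = dm 4 j)]
  obtain ⟨_, _, _, -, dh⟩ := CF.Invol.exists_dh m.syl.pi.isPGroup (by decide) e
  have s := (((npc_iff p2).2 (dh_hasNPC_centralizer dh (m.syl.isSylowIn p2) i)).sdprod (m.syl.of_le l le_top)).sup
  rw [m.odd (O_pi _ _) (l.trans (O_normal _ _).norm), bot_sup_eq] at s
  have o : oddCore H = ⊥ := m.odd od_oddCore le_normalizer_of_normal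
  rcases Cfsg.Agent.S3035.result (d 4) i ⟨(MulEquiv.subgroupCongr s.symm).trans e⟩ with
    k | ⟨⟨k⟩⟩ | ⟨⟨k⟩⟩ | k | ⟨⟨k⟩⟩
  · obtain ⟨g, hg⟩ := n 4 (by simp)
    rw [o, sup_bot_eq] at k
    obtain ⟨j, rfl⟩ := (m.mem g).1 (s.ge (k.ge (mem_top g)))
    exact absurd (by rw [m.ht, (by decide : ∀ j, ac j 4 = 4)]) hg
  · have q : FP (Equiv.swap (0 : Fin 4) 1 * Equiv.swap 2 3) (Equiv.swap 0 2 * Equiv.swap 1 3) :=
      ⟨.mk' (by decide) (by decide), .mk' (by decide) (by decide), by decide, by decide⟩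
    refine (m.not_four n (q.map k.symm.injective (f := k.symm.toMonoidHom)) ?_).elim
    rw [V4, ← MonoidHom.map_zpowers, ← MonoidHom.map_zpowers, ← Subgroup.map_sup]
    refine Normal.map ⟨fun x hx g => q.mem.2 ?_⟩ _ k.symm.surjective
    rw [q.mem] at hx
    revert x g
    decide +kernel
  · have q : FP (Equiv.swap (0 : Fin 5) 1) (Equiv.swap 3 4) :=
      ⟨.mk' (by decide) (by decide), .mk' (by decide) (by decide), by decide, by decide⟩
    refine absurd (k.symm.injective ((m.inv_one (x := k.symm (Equiv.swap 0 1 * Equiv.swap 0 2))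
      (q.map k.symm.injective (f := k.symm.toMonoidHom)) ?_ ?_ ?_).trans (map_one _).symm)) (by decide)
    · haveI := Fact.mk Nat.prime_three
      rw [MulEquiv.orderOf_eq, orderOf_eq_prime (p := 3) (by decide) (by decide)]; decide
    all_goals simp only [MulEquiv.coe_toMonoidHom, ← map_mul, ← map_inv, k.symm.injective.eq_iff]; decide
  · exact k
  · exact (m.not_A6 k).elim

end Md

end CF.HL
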