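-- copy of `Loc.SW3` avoiding a name clash (`Comp.syl_inf`) with `Sig.S4D`
/-
Sylow 2-subgroups of type `M₂₄`: the coordinates exist.
-/
import Cfsg.Agent.TmX.SW2
import Cfsg.Agent.Held.Ctx
import Cfsg.Agent.GW.Quat
import Cfsg.Agent.Fgs1.PGroup
import Cfsg.Agent.S2133
set_option autoImplicit false
set_option linter.unusedSectionVars false
set_option maxRecDepth 100000

namespace CF.SW
open Subgroup Cfsg CF.BG CF.Sig CF.GW CF.Ab2 CF.Cl2 CF.Held CF.Held.HM
open scoped commutatorElement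

/-- elements of the extraspecial group -/
noncomputable def ea (i : Fin 64) : HM :=
  mk' (17043521 + 2 * (i.1 % 8) + 512 * (i.1 / 8 % 2) + 16384 * (i.1 / 16 % 2) + 524288 * (i.1 / 32))
/-- elements of the dihedral complement -/
noncomputable def ed (j : Fin 8) : HM := mk' (17043521 + 128 * (j.1 % 2) + 8192 * (j.1 / 2 % 2) + 256 * (j.1 / 4))

theorem ea_T : ∀ i, In σT (ea i) := by decide +kernel
theorem ed_T : ∀ j, In σT (ed j) := by decide +kernel
theorem ea_mul : ∀ i j, ea i * ea j = ea (xv i j) ∨ ea i * ea j = ea (xv i j) * z := by decide +kernel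
theorem ed_mul : ∀ j k, ed j * ed k = ed (dm j k) := by decide +kernel
theorem ed_ea : ∀ j i, ed j * ea i = ea (ac j i) * ed j ∨ ed j * ea i = ea (ac j i) * ed j * z := by
  decide +kernel
theorem ea_one : ∀ i j, ea i * ed j = 1 ∨ ea i * ed j = z → i = 0 ∧ j = 0 := by decide +kernel
theorem ea_top : ∀ a, In σT a → ∃ i, a = ea i * ed (Fin.ofNat 8 (a.v / 128 % 2 + 2 * (a.v / 8192 % 2) +
    4 * (a.v / 256 % 2))) ∨ a = ea i * ed (Fin.ofNat 8 (a.v / 128 % 2 + 2 * (a.v / 8192 % 2) +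
    4 * (a.v / 256 % 2))) * z := by decide +kernel

theorem mem_center_T {a : T} : a ∈ center T ↔ a.1 = 1 ∨ a.1 = z := by
  refine ⟨fun h => ?_, fun h => mem_center_iff.2 fun b => Subtype.ext ?_⟩
  · have k : ∀ b, In σT b → a.1 * b = b * a.1 := fun b hb =>
      (congrArg Subtype.val (mem_center_iff.1 h ⟨b, mem_T.2 hb⟩)).symm
    exact T_center _ (mem_T.1 a.2) (k _ (by decide +kernel)) (k _ (by decide +kernel))
      (k _ (by decide +kernel)) (k _ (by decide +kernel))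
  · rcases h with h | h <;> simp [h, z_comm]

theorem card_center_T : ♯(center T) = 2 := by
  have zT : z ∈ T := mem_T.2 (by decide +kernel)
  have i : Iv (⟨z, zT⟩ : T) := .mk' (fun e => absurd (congrArg Subtype.val e) (show z ≠ 1 by decide +kernel))
    (Subtype.ext zz)
  rw [← i.card]
  congr 2
  ext a
  simp only [SetLike.mem_coe, mem_center_T, i.mem_zpowers, Subtype.ext_iff, coe_one]

universe u
variable {G : Type u} [Group G] [Finite G]

theorem exists_co {P : Type*} [Group P] (f : T ≃* P) (π : P →* G) (k : π.ker = center P) :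
    ∃ α δ A, Co α δ A π.range := by
  let θ := π.comp f.toMonoidHom
  have k1 : ∀ a, θ a = 1 ↔ a.1 = 1 ∨ a.1 = z := fun a => by
    rw [← mem_center_T]
    exact (show _ ↔ f a ∈ center P by rw [← k]; rfl).trans (MulEquivClass.apply_mem_center_iff f)
  have zT : z ∈ T := mem_T.2 (by decide +kernel)
  have k2 : ∀ {a b : T}, a.1 = b.1 ∨ a.1 = b.1 * z → θ a = θ b := by
    rintro a b (e | e)
    · rw [Subtype.ext e]
    · rw [show a = b * ⟨z, zT⟩ from Subtype.ext e, map_mul, (k1 ⟨z, zT⟩).2 (.inr rfl), mul_one]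
  let qa : Fin 64 → T := fun i => ⟨ea i, mem_T.2 (ea_T i)⟩
  let qd : Fin 8 → T := fun j => ⟨ed j, mem_T.2 (ed_T j)⟩
  have m : ∀ i j, θ (qa i) * θ (qa j) = θ (qa (xv i j)) := fun i j => (map_mul θ ..).symm.trans (k2 (ea_mul i j))
  have m0 : θ (qa 0) = 1 := mul_eq_left.1 (m 0 0)
  refine ⟨fun i => θ (qa i), fun j => θ (qd j), ⟨⟨⟨Set.range fun i => θ (qa i), ?_⟩, 0, m0⟩, ?_⟩,
    fun _ => Iff.rfl, m, fun j k => (map_mul θ ..).symm.trans (k2 (.inl (ed_mul j k))), fun j i => ?_,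
    fun i j e => ea_one i j ((k1 (qa i * qd j)).1 ((map_mul θ ..).trans e)), fun s => ⟨?_, ?_⟩⟩
  · rintro _ _ ⟨i, rfl⟩ ⟨j, rfl⟩; exact ⟨_, (m i j).symm⟩
  · rintro _ ⟨i, rfl⟩
    exact ⟨i, eq_inv_of_mul_eq_one_left (by rw [m, (xv_f i i).2.2 rfl, m0])⟩
  · rw [← map_mul, ← map_mul]; exact k2 (ed_ea j i)
  · rintro ⟨x, rfl⟩
    obtain ⟨a, rfl⟩ := f.surjective x
    obtain ⟨i, e⟩ := ea_top a (mem_T.1 a.2)
    exact ⟨i, _, (map_mul θ ..).symm.trans (k2 (b := qa i * qd _) e).symm⟩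
  · rintro ⟨i, j, rfl⟩
    exact ⟨f (qa i * qd j), map_mul θ ..⟩

theorem T_equiv {φ : HM →* G} (h : Ctx φ) (P : Sylow 2 G) : Nonempty (T ≃* P) := by
  obtain ⟨Q, e⟩ := h.syl.exists_sylow_top
  exact ⟨((T.equivMapOfInjective φ h.inj).trans (MulEquiv.subgroupCongr e.symm)).trans (Q.equiv P)⟩

omit [Finite G] in
theorem ctx_of {j : G} (hj : orderOf j = 2) (e : HM ≃* 𝐂₁ j) : Ctx ((𝐂₁ j).subtype.comp e.toMonoidHom) := by
  obtain ⟨a, ha⟩ := e.surjective ⟨j, self_mem_cent1 j⟩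
  have c : ∀ b, a * b = b * a := fun b => e.injective (Subtype.ext (by
    rw [map_mul, map_mul, ha]; exact (mem_cent1.1 (e b).2).symm))
  have q : (e z : G) = j := by
    obtain rfl | rfl := T_center a (mem_T.1 ⟨mem_St.2 (.inl (c _)), mem_St.2 (.inl (c _))⟩)
      (c _) (c _) (c _) (c _)
    · rw [map_one] at ha
      exact absurd (congrArg Subtype.val ha).symm (Iv.ne_one hj)
    · exact congrArg Subtype.val ha
  refine ⟨Subtype.val_injective.comp e.injective, fun g hg => ?_⟩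
  obtain ⟨b, hb⟩ := e.surjective ⟨g, mem_cent1.2 (q ▸ hg)⟩
  exact ⟨b, congrArg Subtype.val hb⟩

theorem T_M24 (P : Sylow 2 M24) : Nonempty (T ≃* P) := by
  have hs : (toSL 17043537 17043537 (by decide +kernel)).1 = Matrix.transvection 0 1 1 := by decide +kernel
  obtain ⟨f⟩ := exists_equiv hs
  obtain ⟨j, hj, ⟨e⟩⟩ := Cfsg.Agent.S2133.result _ hs
  exact T_equiv (ctx_of hj (f.trans e.symm)) P

variable {E R X : Subgroup G}

theorem co_qt (f : T ≃* R) : ∃ α δ A, Co α δ A (qt (𝐙 R) R) := by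
  have n := (center_normal R).norm
  have := exists_co f ((qt (𝐙 R) R).subtype.comp (qtHom n)) (by
    rw [← MonoidHom.comap_ker, ker_subtype, MonoidHom.comap_bot, qtHom_ker, ← center_map_subtype]
    exact comap_map_eq_self_of_injective R.subtype_injective _)
  rwa [MonoidHom.range_comp, MonoidHom.range_eq_top.2 (qtHom_surj n), map_top_subtype] at this

theorem card_Z (f : T ≃* R) : ♯(𝐙 R) = 2 := by
  rw [← center_map_subtype, card_map R.subtype_injective, ← card_center_T]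
  exact Nat.card_congr (centerCongr f).toEquiv.symm

/-- the extraspecial subgroup is normal -/
theorem ex_normal (f : T ≃* R) (hR : Syl 2 R X) (h0 : 𝒪 X = ⊥) (c : 𝐙 R ≤ 𝐂 X) (l : E ≤ R)
    (d : ⁅E, E⁆ = 𝐙 R) (e : ♯E = 128) : X ≤ 𝐍 E := by
  obtain ⟨α, δ, A, h⟩ := co_qt f
  have n : X ≤ 𝐍 (𝐙 R) := norm_of_le_center c
  have nE := l.trans (hR.le.trans n)
  have zE : 𝐙 R ≤ E := d ▸ der_le E
  have q := h.uniq (qt_mono _ l) ((abel_qt_iff nE).2 d.le) (by
    have := card_mul_relIndex zE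
    rw [card_Z f, e, ← card_qt nE] at this
    omega)
  exact (qt_norm_iff ⟨zE, nE⟩ n).1 (q ▸ h.normal (hR.qt n)
    (O_qt_of_central (le_inf (inf_le_left.trans hR.le) c) (hR.pi.le inf_le_left) h0))

theorem Co.center_le {α : Fin 64 → G} {δ : Fin 8 → G} {A S M : Subgroup G} (h : Co α δ A S) (l : M ≤ S)
    (c : ♯S = 2 * ♯M) : ♯(𝐙 M) ≤ 8 := by
  have s1 : S ⊓ A = A := inf_eq_right.2 h.le
  have c0 : 8 * 64 ≤ ♯S := by
    refine le_of_eq_of_le (by simp) (Nat.card_le_card_of_injective (fun x : Fin 8 × Fin 64 =>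
      (⟨α x.2 * δ x.1, (h.top _).2 ⟨_, _, rfl⟩⟩ : S)) fun x y e => ?_)
    have e : α x.2 * δ x.1 = α y.2 * δ y.1 := congrArg Subtype.val e
    have q := h.cs_uq ⟨_, e⟩ ⟨_, rfl⟩
    rw [q] at e
    exact Prod.ext q (h.inj (mul_right_cancel e))
  have c1 := h.card_le_J l
  have c2 := (card_le (inf_le_right : M ⊓ A ≤ A)).trans h.card.le
  have c3 : (Jm α δ M).card ≤ 8 := (Finset.card_le_univ _).trans (by simp)
  refine (card_le (le_inf (fun u hu => by_contra fun n => ?_) inf_le_right)).trans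
    ((h.card_fx l).trans_le (fx_four _ (by nlinarith)))
  have := (card_le (le_inf inf_le_right (inf_le_left.trans (le_cent1_iff.2 hu.2)) :
    M ⊓ A ≤ A ⊓ 𝐂₁ u)).trans (h.card_cent (l hu.1) n).1
  nlinarith

end CF.SW
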