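-- copy of `Loc.HL1` avoiding a name clash (`Comp.syl_inf`) with `Sig.S4D`
/-
Groups with Sylow 2-subgroups of type `L₅(2)`: the coded Sylow subgroup and weak closure.
-/
import Cfsg.Agent.TmX.SW3
import Cfsg.Agent.W2.SM
import Cfsg.Agent.Loc.Iso
set_option autoImplicit false
set_option linter.unusedSectionVars false
set_option maxRecDepth 100000

namespace CF.HL
open Subgroup Cfsg CF.BG CF.Sig CF.GW CF.Ab2 CF.Cl2 CF.Comp CF.W2
open CF.Held (HM Sh)
open CF.Held.HM (In σT σ1 σ2 σE σS σU mem_T mem_W1 mem_W2 mem_U)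

/-- unitriangular matrices -/
structure UT : Type where
  v : HM
  ok : In σT v

namespace UT

theorem ext {a b : UT} (h : a.v = b.v) : a = b := by cases a; cases b; congr

noncomputable instance instDecEqUT : DecidableEq UT := fun a b =>
  decidable_of_iff (Nat.beq a.v.v b.v.v = true) ⟨fun h => ext (Held.HM.ext (beq_iff.1 h)), fun h => h ▸ beq_iff.2 rfl⟩

noncomputable instance instMulUT : Mul UT :=
  ⟨fun a b => ⟨a.v * b.v, mem_T.1 (mul_mem (mem_T.2 a.ok) (mem_T.2 b.ok))⟩⟩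

noncomputable instance instInvUT : Inv UT := ⟨fun a => ⟨a.v⁻¹, mem_T.1 (inv_mem (mem_T.2 a.ok))⟩⟩

instance instOneUT : One UT := ⟨⟨1, by decide +kernel⟩⟩

noncomputable instance instGroupUT : Group UT := Group.ofLeftAxioms (fun a b c => ext (mul_assoc a.v b.v c.v))
  (fun a => ext (one_mul a.v)) fun a => ext (inv_mul_cancel a.v)

/-- a test -/
noncomputable def gu (p : UT → Bool) (a : HM) : Bool := if h : In σT a then p ⟨a, h⟩ else true

noncomputable instance instDecAllInUT (σ : Sh) (P : UT → Prop) [DecidablePred P] :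
    Decidable (∀ a : UT, In σ a.v → P a) :=
  decidable_of_iff (∀ a, In σ a → gu (fun a => decide (P a)) a = true)
    ⟨fun h a ha => by have := h a.v ha; rw [gu, dif_pos a.ok] at this; exact of_decide_eq_true this,
      fun h a ha => by rw [gu]; split_ifs with k; exacts [decide_eq_true (h ⟨a, k⟩ ha), rfl]⟩

noncomputable instance (priority := low) instDecAllUT (P : UT → Prop) [DecidablePred P] : Decidable (∀ a, P a) :=
  decidable_of_iff (∀ a : UT, In σT a.v → P a) ⟨fun h a => h a a.ok, fun h a _ => h a⟩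

noncomputable instance instDecExInUT (σ : Sh) (P : UT → Prop) [DecidablePred P] :
    Decidable (∃ a : UT, In σ a.v ∧ P a) :=
  decidable_of_iff (¬ ∀ a : UT, In σ a.v → ¬ P a) (by simp)

noncomputable instance (priority := low) instDecExUT (P : UT → Prop) [DecidablePred P] : Decidable (∃ a, P a) :=
  decidable_of_iff (¬ ∀ a, ¬ P a) (by simp)

end UT

/-- the inclusion -/
noncomputable def ι : UT →* HM := MonoidHom.mk' UT.v fun _ _ => rfl

theorem ι_inj : Function.Injective ι := fun _ _ => UT.ext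

instance instFiniteUT : Finite UT := Finite.of_injective ι ι_inj

theorem range_ι : ι.range = Held.HM.T :=
  Subgroup.ext fun a => ⟨fun ⟨b, e⟩ => e ▸ mem_T.2 b.ok, fun h => ⟨⟨a, mem_T.1 h⟩, rfl⟩⟩

/-- the isomorphism with the Sylow subgroup -/
noncomputable def eT : UT ≃* Held.HM.T := (MonoidHom.ofInjective ι_inj).trans (MulEquiv.subgroupCongr range_ι)

/-- the graph automorphism -/
noncomputable def γ : UT →* UT :=
  MonoidHom.mk' (fun a => ⟨Held.HM.γ a.v, Held.HM.γ_T _ a.ok⟩) fun a b => UT.ext (map_mul Held.HM.γ a.v b.v)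

theorem γ_γ (a : UT) : γ (γ a) = a := UT.ext (Held.HM.γ_γ _)

/-- a matrix -/
def z : UT := ⟨Held.HM.z, by decide +kernel⟩
/-- a matrix -/
def e12 : UT := ⟨Held.HM.e12, by decide +kernel⟩
/-- a matrix -/
def e13 : UT := ⟨Held.HM.e13, by decide +kernel⟩
/-- a matrix -/
def e14 : UT := ⟨Held.HM.e14, by decide +kernel⟩
/-- a matrix -/
def e23 : UT := ⟨Held.HM.e23, by decide +kernel⟩
/-- a matrix -/
def e24 : UT := ⟨Held.HM.e24, by decide +kernel⟩
/-- a matrix -/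
def e25 : UT := ⟨Held.HM.e25, by decide +kernel⟩
/-- a matrix -/
def e34 : UT := ⟨Held.HM.e34, by decide +kernel⟩
/-- a matrix -/
def e35 : UT := ⟨Held.HM.e35, by decide +kernel⟩
/-- a matrix -/
def e45 : UT := ⟨Held.HM.e45, by decide +kernel⟩
/-- a matrix -/
def t : UT := ⟨Held.HM.t, by decide +kernel⟩

/-- the extraspecial subgroup -/
def σQ : Sh := ⟨nat_lit 17043521, nat_lit 541214, [nat_lit 1, nat_lit 2, nat_lit 3, nat_lit 4, nat_lit 9,
  nat_lit 14, nat_lit 19], by decide⟩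

/-- first elementary abelian group of order 64 -/
noncomputable def W1 : Subgroup UT := Held.HM.W1.comap ι
/-- second elementary abelian group of order 64 -/
noncomputable def W2 : Subgroup UT := Held.HM.W2.comap ι
/-- the last column -/
noncomputable def U : Subgroup UT := Held.HM.U.comap ι
/-- the extraspecial subgroup -/
def Q : Subgroup UT where
  carrier := {a | In σQ a.v}
  one_mem' := by show In σQ (1 : UT).v; decide +kernel
  mul_mem' {a b} ha hb := (by decide +kernel : ∀ a : UT, In σQ a.v → ∀ b : UT, In σQ b.v → In σQ (a * b).v) a ha b hb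
  inv_mem' {a} := (by decide +kernel : ∀ a : UT, In σQ a.v → In σQ a⁻¹.v) a

variable {a b c d : UT}

theorem mW1 : a ∈ W1 ↔ In σ1 a.v := mem_W1
theorem mW2 : a ∈ W2 ↔ In σ2 a.v := mem_W2
theorem mU : a ∈ U ↔ In σU a.v := mem_U
theorem mQ : a ∈ Q ↔ In σQ a.v := Iff.rfl

theorem cz (a : UT) : a * z = z * a := UT.ext (Held.HM.z_comm _)
theorem zz : z * z = 1 := by decide +kernel
theorem z1 : z ≠ 1 := by decide +kernel

theorem ctr (h : ∀ b, a * b = b * a) : a = 1 ∨ a = z :=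
  (by decide +kernel : ∀ a, a * e12 = e12 * a → a * e23 = e23 * a → a * e34 = e34 * a → a * e45 = e45 * a →
    a = 1 ∨ a = z) a (h _) (h _) (h _) (h _)

theorem W1_comm (ha : In σ1 a.v) : a * a = 1 ∧ ∀ b : UT, In σ1 b.v → a * b = b * a :=
  ⟨UT.ext (Held.HM.W1_comm _ ha).1, fun _ hb => UT.ext ((Held.HM.W1_comm _ ha).2.2 _ hb)⟩

theorem W2_comm (ha : In σ2 a.v) : a * a = 1 ∧ ∀ b : UT, In σ2 b.v → a * b = b * a :=
  ⟨UT.ext (Held.HM.W2_comm _ ha).1, fun _ hb => UT.ext ((Held.HM.W2_comm _ ha).2.2 _ hb)⟩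

theorem card_of {σ : Sh} {S : Subgroup UT} (h : ∀ a, a ∈ S ↔ In σ a.v) (k : (Held.HM.els σ).Nodup ∧
    ((Held.HM.els σ).all fun a => σ.has a.v && σT.has a.v) = true) : ♯S = (Held.HM.els σ).length := by
  have k2 := fun a ha => Bool.and_eq_true_iff.1 (List.all_eq_true.1 k.2 a ha)
  rw [← card_map ι_inj]
  exact Held.HM.card_eq_of (fun a => ⟨fun ⟨b, hb, e⟩ => e ▸ (h b).1 hb,
    fun ha => ⟨⟨a, (k2 a (Held.HM.mem_els ha)).2⟩, (h _).2 ha, rfl⟩⟩) k.1 fun a ha => (k2 a ha).1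

theorem card_W1 : ♯W1 = 64 := (card_of (fun _ => mW1) (by decide +kernel)).trans (by decide +kernel)
theorem card_W2 : ♯W2 = 64 := (card_of (fun _ => mW2) (by decide +kernel)).trans (by decide +kernel)
theorem card_U : ♯U = 16 := (card_of (fun _ => mU) (by decide +kernel)).trans (by decide +kernel)
theorem card_Q : ♯Q = 128 := (card_of (fun _ => mQ) (by decide +kernel)).trans (by decide +kernel)

theorem W_or {A : Subgroup UT} (sq : ∀ a ∈ A, a * a = 1) (hc : ♯A = 64) : A = W1 ∨ A = W2 := by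
  have := Held.HM.le_W_or (A := A.map ι) (range_ι ▸ map_le_range ι A)
    (by rintro _ ⟨a, ha, rfl⟩; rw [← map_mul, sq a ha, map_one]) ((card_map ι_inj).trans hc)
  exact this.imp (fun e => by rw [W1, ← e, comap_map_eq_self_of_injective ι_inj])
    fun e => by rw [W2, ← e, comap_map_eq_self_of_injective ι_inj]

theorem nW1 : W1.Normal :=
  ⟨fun a ha g => (conj_mem_of_norm (Held.HM.T_norm1 (mem_T.2 g.ok)) ha : g.v * a.v * g.v⁻¹ ∈ Held.HM.W1)⟩
theorem nW2 : W2.Normal :=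
  ⟨fun a ha g => (conj_mem_of_norm (Held.HM.T_norm2 (mem_T.2 g.ok)) ha : g.v * a.v * g.v⁻¹ ∈ Held.HM.W2)⟩

theorem map_γ {A B : Subgroup UT} (h1 : ∀ a ∈ A, γ a ∈ B) (h2 : ∀ a ∈ B, γ a ∈ A) : A.map γ = B :=
  le_antisymm (map_le_iff_le_comap.2 h1) fun a ha => ⟨γ a, h2 a ha, γ_γ a⟩

theorem γ_W1 : W1.map γ = W2 :=
  map_γ (fun _ h => mW2.2 (Held.HM.γ_W1 _ (mW1.1 h))) fun _ h => mW1.2 (Held.HM.γ_W2 _ (mW2.1 h))

theorem γ_W2 : W2.map γ = W1 :=
  map_γ (fun _ h => mW1.2 (Held.HM.γ_W2 _ (mW2.1 h))) fun _ h => mW2.2 (Held.HM.γ_W1 _ (mW1.1 h))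

universe u
variable {G : Type u} [Group G] [Finite G] {φ : UT →* G} {g k x y : G} {C : Subgroup G}

theorem range_γ (φ : UT →* G) : (φ.comp γ).range = φ.range :=
  Subgroup.ext fun _ => ⟨fun ⟨a, e⟩ => ⟨γ a, e⟩, fun ⟨a, e⟩ => ⟨γ a, (congrArg φ (γ_γ a)).trans e⟩⟩

theorem sm_γ (h : SM φ) : SM (φ.comp γ) :=
  ⟨h.inj.comp (Function.LeftInverse.injective γ_γ), range_γ φ ▸ h.syl⟩

theorem cjN {L : Subgroup UT} (n : g ∈ 𝐍 (L.map φ)) (ha : a ∈ L) : ∃ d ∈ L, Cj φ g a d :=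
  let ⟨d, hd, e⟩ := conj_mem_of_norm n (mem_map_of_mem φ ha)
  ⟨d, hd, e.symm⟩

theorem S_norm (L : Subgroup UT) [L.Normal] : φ.range ≤ 𝐍 (L.map φ) := by
  rintro _ ⟨x, rfl⟩
  exact map_norm (A := ⊤) le_normalizer_of_normal φ (mem_map_of_mem φ trivial)

theorem mem_c (e : a * d = d * a) : φ a ∈ 𝐂₁ (φ d) := mem_cent1.2 (Cj.of' e).comm

theorem _root_.CF.W2.Cj.cen1 {K : Type*} [Group K] {φ : K →* G} {a d : K} (e : Cj φ g a d) :
    cj g (𝐂₁ (φ a)) = 𝐂₁ (φ d) := (cj_cent1 g _).trans (congrArg (fun x => 𝐂₁ x) e)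

variable (h : SM φ)
include h

theorem W_cases {A : Subgroup UT} (sq : ∀ a ∈ A, a * a = 1) (hc : ♯A = 64) (l : cj g (A.map φ) ≤ φ.range) :
    cj g (A.map φ) = W1.map φ ∨ cj g (A.map φ) = W2.map φ := by
  have e := map_comap_eq_self l
  rw [← e]
  refine (W_or (fun a ha => ?_) ?_).imp (congrArg _) (congrArg _)
  · obtain ⟨_, ⟨b, hb, rfl⟩, q⟩ := ha
    have q : Cj φ g b a := q
    exact tr h.inj (q.mul q) (Cj.one g) (sq b hb)
  · rw [← card_map h.inj, e, card_cj, card_map h.inj, hc]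

theorem W_ne : W1.map φ ≠ W2.map φ := fun e => absurd (mW2.1 ((mem_map_iff_mem h.inj).1
  (e ▸ mem_map_of_mem φ (mW1.2 (show In σ1 e13.v by decide +kernel))))) (by decide +kernel)

/-- weak closure -/
theorem wc1 (l : cj g (W1.map φ) ≤ φ.range) : g ∈ 𝐍 (W1.map φ) := by
  haveI := nW1
  haveI := nW2
  have s1 := fun a (ha : a ∈ W1) => (W1_comm (mW1.1 ha)).1
  have s2 := fun a (ha : a ∈ W2) => (W2_comm (mW2.1 ha)).1
  refine cj_eq_self.1 ((W_cases h s1 card_W1 l).resolve_right fun e => W_ne h ?_)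
  have p := (h.syl.cj_top g).of_le (K := 𝐍 (W2.map φ)) (by rw [← e, ← cj_norm]; exact cj_mono g (S_norm _)) le_top
  obtain ⟨n, hn, e1⟩ := p.syl_conj (h.syl.of_le (S_norm _) le_top)
  rw [cj_cj] at e1
  have e : cj (n * g) (W1.map φ) = W2.map φ := by rw [← cj_cj, e, cj_of_norm hn]
  have m := cj_eq_self.1 e1.symm
  generalize n * g = g at e m
  have e' : cj g (W2.map φ) = W1.map φ := (W_cases h s2 card_W2 (cj_le_of_norm m (map_le_range _ _))).resolve_right
    fun k => W_ne h (cj_inj.1 (e.trans k.symm))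
  have e2 : g * g ∈ 𝐍 (W1.map φ) := by rw [← cj_eq_self, ← cj_cj, e, e']
  obtain ⟨u, v, hu, hv, pu, pv, rfl⟩ := exists_piPart {2} g
  have uS := S_norm W1 (h.syl.mem_of_norm trivial (zpowers_le.2 m hu) pu)
  have c : v * u = u * v := (abel_zpowers _).mul_comm hv hu
  rw [← e, cj_of_norm (mul_mem uS (sq_mem_of_odd pv ((mul_mem_cancel_left (mul_mem uS uS)).1 (mem_of_eq e2 ?_))))]
  calc _ = u * (u * v) * v := by group
    _ = u * (v * u) * v := by rw [c]
    _ = _ := by group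

theorem wc2 (l : cj g (W2.map φ) ≤ φ.range) : g ∈ 𝐍 (W2.map φ) := by
  have := wc1 (sm_γ h) (g := g)
  rw [← map_map, γ_W1, range_γ] at this
  exact this l

theorem ctl {L : Subgroup UT} (wc : ∀ g, cj g (L.map φ) ≤ φ.range → g ∈ 𝐍 (L.map φ)) (h1 : L.map φ ≤ C)
    (h2 : cj g (L.map φ) ≤ C) : ∃ c ∈ C, c * g ∈ 𝐍 (L.map φ) := by
  obtain ⟨P, hP, e⟩ := exists_syl_le h1 (h.pi L)
  obtain ⟨c, hc, e'⟩ := hP.syl_cj_le h2 ((h.pi L).cj g)
  obtain ⟨n, -, e1⟩ := h.syl.syl_cj_le le_top hP.pi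
  rw [cj_cj] at e'
  exact ⟨c, hc, (mul_mem_cancel_left (wc n ((cj_mono n e).trans e1))).1
    (wc _ (by rw [← cj_cj]; exact (cj_mono n e').trans e1))⟩

/-- a conjugation carrying the centralizer into the Sylow subgroup normalizes `W₁`, `W₂` -/
theorem nW (ha : In σE a.v) (k : ∀ c, c * a = a * c → ∃ d, Cj φ g c d) :
    g ∈ 𝐍 (W1.map φ) ∧ g ∈ 𝐍 (W2.map φ) := by
  have e := (by decide +kernel : ∀ a : UT, In σE a.v → In σ1 a.v ∧ In σ2 a.v) a ha
  refine ⟨wc1 h ?_, wc2 h ?_⟩ <;> rintro _ ⟨_, ⟨c, hc, rfl⟩, rfl⟩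
  exacts [(k c ((W1_comm (mW1.1 hc)).2 a e.1)).imp fun _ => Eq.symm,
    (k c ((W2_comm (mW2.1 hc)).2 a e.2)).imp fun _ => Eq.symm]

theorem toZ (e : Dz φ a z) : ∃ g, Cj φ g a z ∧ ∀ c, c * a = a * c → ∃ d, Cj φ g c d :=
  (h.to_ext (h.syl_z cz) e).imp fun _ k => ⟨k.1, fun c hc => (k.2 c hc).imp fun _ k => k.2⟩

end CF.HL
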