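-- copy of `Loc.HL3` avoiding a name clash (`Comp.syl_inf`) with `Sig.S4D`
/-
Groups with Sylow 2-subgroups of type `L₅(2)`: transfer.
-/
import Cfsg.Agent.TmX.HL1
set_option autoImplicit false
set_option linter.unusedSectionVars false
set_option maxRecDepth 100000
set_option synthInstance.maxSize 100000

namespace CF.HL
open Subgroup Cfsg CF.BG CF.Sig CF.GW CF.Ab2 CF.Cl2 CF.Comp CF.W2
open CF.Held (HM Sh)
open CF.Held.HM (In σT σ1 σ2 σE σS σU mem_T mem_W1 mem_W2 mem_U)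

/-- the derived subgroup -/
def σD : Sh := ⟨nat_lit 17043521, nat_lit 17180, [nat_lit 2, nat_lit 3, nat_lit 4, nat_lit 8, nat_lit 9,
  nat_lit 14], by decide⟩

/-- the third term of the lower central series -/
def σ3 : Sh := ⟨nat_lit 17043521, nat_lit 536, [nat_lit 3, nat_lit 4, nat_lit 9], by decide⟩

theorem p4 : ∀ d : UT, In σD (d * d).v ∧ (d * d * (d * d) = 1 ∨ d * d * (d * d) = z) := by decide +kernel

theorem cm3 : ∀ d : UT, In σD d.v → ∀ c, In σ3 (cm d c).v := by decide +kernel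

theorem s3 : ∀ w : UT, In σ3 w.v → In σE w.v ∧ (w = 1 ∨ w = z ∨ (∃ s ∈ [1, e12], s * w = t * s) ∨
    w ≠ z ∧ (∃ b : UT, In σ1 b.v ∧ cm b e35 = w) ∧ (∀ y, y * e25 = e25 * y → y * w = w * y) ∨
    ∀ y, y * e25 = e25 * y → y * w = w * y → ∀ c : UT, In σE c.v → y * c = c * y) := by decide +kernel

theorem col : ∀ b : UT, In σ1 b.v → ∀ v : UT, In σ2 v.v → cm b v = z → ∀ a : UT, In σ1 a.v →
    cm a v = 1 ∨ cm a v = z ∨ cm a v = e25 ∨ cm a v = e25 * z := by decide +kernel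

theorem mE : ∀ a : UT, In σ1 a.v → In σ2 a.v → In σE a.v := by decide +kernel

universe u
variable {G : Type u} [Group G] [Finite G] {φ : UT →* G} {g k x y : G} {a b c d : UT} (h : SM φ)
include h

theorem z_ne {g : G} : ¬ Cj φ g z 1 := fun e => z1 (uniq h.inj e.symm (Cj.one _))

theorem trc (e : Cj φ g a b) (k : Cj φ g c d) : a * c = c * a ↔ b * d = d * b := eq_iff h.inj (e.mul k) (k.mul e)

theorem not_tz : ¬ Dz φ t z := fun e => by
  obtain ⟨g, e, k⟩ := toZ h e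
  obtain ⟨d, q⟩ := k ⟨⟨nat_lit 17592515, by decide +kernel⟩, by decide +kernel⟩ (by decide +kernel)
  have := ((q.mul q).mul (q.mul q)).cast (show _ = z by decide +kernel) rfl
  rcases (p4 d).2 with r | r <;> rw [r] at this
  exacts [z_ne h this, absurd ((eq_iff h.inj this e).2 rfl) (by decide +kernel)]

theorem mv25 (hp : commutator G = ⊤)
    (H : ∀ g x y, Cj φ g z z → Cj φ g x y → y * e25 = e25 * y → x * e25 = e25 * x) : False := by
  obtain ⟨g, ⟨y, hy, e⟩, l⟩ := Loc.extremal_transfer (S := φ.range) (M := (𝐂₁ e25).map φ) (T := (𝐂₁ e12).map φ)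
    (relIndex_top_right φ.range ▸ h.syl.not_dvd p2) (map_le_range ..) (by
      rw [MonoidHom.range_eq_map, relIndex_map_map_of_injective _ _ h.inj, relIndex_top_right, index_eq_two_iff]
      simp only [mem_cent1]
      exact ⟨e12, by decide +kernel⟩) (x := φ e12) (by rw [pow_two, map_sq (by decide +kernel)])
    (hp ▸ mem_top _) (h.pi _).isPGroup (h.cent e12 ▸ inf_le_right)
  have e : Cj φ g⁻¹ e12 y := by rw [Cj, inv_inv, e]
  have hy := mem_cent1.1 hy
  have l : ∀ {c}, c * e12 = e12 * c → ∃ d, Cj φ g⁻¹ c d := fun hc =>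
    (l (conj_mem_cj.2 (mem_map_of_mem φ (mem_cent1.2 hc)))).imp fun _ => Eq.symm
  generalize g⁻¹ = g at e l
  obtain ⟨a, q1⟩ := l (c := e13 * e34) (by decide +kernel)
  obtain ⟨c, q2⟩ := l (c := e45) (by decide +kernel)
  have q := ((q1.mul q1).cm q2).cast (show _ = z by decide +kernel) rfl
  obtain ⟨wE, k⟩ := s3 _ (cm3 _ (p4 a).1 c)
  generalize cm (a * a) c = w at q wE k
  have fin : ∀ {g d}, Cj φ g z z → Cj φ g e12 d → d * e25 ≠ e25 * d := fun p q r =>
    absurd (H _ _ _ p q r) (by decide +kernel)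
  obtain rfl | rfl | ⟨s, -, k⟩ | k := k
  · exact z_ne h q
  · exact fin q e hy
  · exact not_tz h ⟨_, (q.comp (.of' k)).symm⟩
  obtain ⟨n, p, m⟩ := toZ h ⟨_, q.symm⟩
  obtain ⟨n1, n2⟩ := nW h wE m
  have yw := (trc h e q).1 (cz _)
  obtain ⟨d, r⟩ := m y yw
  refine fin (q.comp p) (e.comp r) ?_
  obtain ⟨wz, ⟨b, hb, k⟩, -⟩ | k := k
  · obtain ⟨b', hb', r1⟩ := cjN n1 (mW1.2 hb)
    obtain ⟨a', ha', r2⟩ := cjN n1 (mW1.2 (show In σ1 e13.v by decide +kernel))
    obtain ⟨v, hv, r3⟩ := cjN n2 (mW2.2 (show In σ2 e35.v by decide +kernel))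
    have r4 := (r2.cm r3).cast (show _ = z by decide +kernel) rfl
    have := (trc h r r4).1 (cz _)
    rcases col b' (mW1.1 hb') v (mW2.1 hv) (tr h.inj (r1.cm r3) p k) a' (mW1.1 ha') with o | o | o | o <;>
      rw [o] at r4 this
    · exact absurd r4 (z_ne h)
    · exact absurd ((eq_iff h.inj p r4).2 rfl) wz
    · exact this
    · rwa [← mul_assoc, mul_assoc e25, ← cz d, ← mul_assoc, mul_left_inj] at this
  · obtain ⟨c, h1, r1⟩ := cjN (inv_mem n1) (mW1.2 (show In σ1 e25.v by decide +kernel))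
    obtain ⟨c', h2, r2⟩ := cjN (inv_mem n2) (mW2.2 (show In σ2 e25.v by decide +kernel))
    obtain rfl := uniq h.inj r1 r2
    exact (trc h r.symm r1).2 (k y hy yw c (mE c (mW1.1 h1) (mW2.1 h2)))

omit [Finite G] h in
theorem mem_cz (φ : UT →* G) (x : UT) : φ x ∈ 𝐂₁ (φ z) := mem_cent1.2 (Cj.of' (cz x)).comm

/-- the image in `C(z)/O(C(z))` -/
noncomputable abbrev bar (φ : UT →* G) :=
  (QuotientGroup.mk' (oddCore (𝐂₁ (φ z)))).comp (φ.codRestrict _ (mem_cz φ))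

theorem sm_bar : SM (bar φ) := (h.sub _).map (QuotientGroup.mk'_surjective _) od_ker

omit [Finite G] h in
theorem cj_bar {g : 𝐂₁ (φ z)} {x y : UT} (e : Cj φ g x y) : Cj (bar φ) g x y :=
  congrArg (QuotientGroup.mk' (oddCore (𝐂₁ (φ z)))) (Subtype.ext e :
    g * φ.codRestrict _ (mem_cz φ) x * g⁻¹ = φ.codRestrict _ (mem_cz φ) y)

omit [Finite G] h in
theorem hz_bar (g) : Cj (bar φ) g z z := by
  obtain ⟨g, rfl⟩ := QuotientGroup.mk_surjective g
  exact cj_bar (Cj.of_comm (mem_cent1.1 g.2))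

theorem mv_bar (hp : commutator G = ⊤) {α : UT →* UT} (αα : ∀ a, α (α a) = a) (αz : α z = z) :
    ∃ g, ¬ Cj (bar φ) g (α e25) (α e25) ∧ ¬ Cj (bar φ) g (α e25) (α e25 * z) := by
  by_contra! H
  have i : Function.Injective α := Function.LeftInverse.injective αα
  refine mv25 (φ := φ.comp α) ⟨h.inj.comp i, (show φ.range = (φ.comp α).range from Subgroup.ext fun _ =>
    ⟨fun ⟨a, e⟩ => ⟨α a, (congrArg φ (αα a)).trans e⟩, fun ⟨a, e⟩ => ⟨α a, e⟩⟩) ▸ h.syl⟩ hp
    fun g x y p q r => i ?_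
  have p : Cj φ g (α z) (α z) := p
  rw [αz] at p
  have q := cj_bar (g := ⟨g, mem_cent1.2 p.comm⟩) (show Cj φ g (α x) (α y) from q)
  have r := congrArg α r
  rw [map_mul, map_mul] at r ⊢
  by_cases k : Cj (bar φ) (⟨g, mem_cent1.2 p.comm⟩ : 𝐂₁ (φ z)) (α e25) (α e25)
  · exact (trc (sm_bar h) q k).2 r
  · exact (trc (sm_bar h) q (H _ k)).2 (by rw [← mul_assoc, r, mul_assoc, cz, mul_assoc])

end CF.HL
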