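-- copy of `Loc.HL5` avoiding a name clash (`Comp.syl_inf`) with `Sig.S4D`
/-
Groups with Sylow 2-subgroups of type `L₅(2)`: coordinates and fusion of involutions.
-/
import Cfsg.Agent.TmX.HL4
set_option autoImplicit false
set_option linter.unusedSectionVars false
set_option maxRecDepth 100000
set_option synthInstance.maxSize 100000

namespace CF.HL
open Subgroup Cfsg CF.BG CF.Sig CF.GW CF.Ab2 CF.Cl2 CF.Comp CF.W2
open CF.Held (HM Sh)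
open CF.Held.HM (In σT σ1 σ2 σE σS σU σP mem_T mem_W1 mem_W2 mem_U cls rep wit cls_spec Inv1 dp m_f1 m_f2)

/-- a matrix -/
def r6 : UT := ⟨Held.HM.r6, by decide +kernel⟩
/-- a matrix -/
def r7 : UT := ⟨Held.HM.r7, by decide +kernel⟩
/-- a matrix -/
def r8 : UT := ⟨Held.HM.r8, by decide +kernel⟩

/-- class representatives -/
noncomputable def rq (i : ℕ) : UT := nth 1 [1, z, e14, e25, t, e24, r6, r7, r8] i

/-- the representative of the class of an involution -/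
noncomputable def rp (a : UT) : UT := rq (cls a.v)

theorem rp_f : ∀ a : UT, a * a = 1 → (rp a).v = rep (cls a.v) ∧ (In σ1 (rp a).v ∨ In σ2 (rp a).v) ∧
    (a = 1 ∨ a = z ∨ rp a = e14 ∨ rp a = e25 ∨ rp a = t ∨ rp a = e24 ∨ rp a = r6 ∨ rp a = r7 ∨ rp a = r8) := by
  decide +kernel

theorem col2 : ∀ a : UT, In σ1 a.v → ∀ v : UT, In σ2 v.v → cm a v = e25 ∨ cm a v = e25 * z → ∀ w : UT, In σ2 w.v →
    cm a w = 1 ∨ cm a w = cm a v ∨ cm a w * cm a w = 1 ∧ rp (cm a w) = e24 ∧ rp (cm a w * z) = r6 := by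
  decide +kernel

theorem pz1 : ∀ b : UT, In σ1 b.v ∨ In σ2 b.v → b = 1 ∨ b = z ∨ rp b = e24 ∨ rp b = r6 ∨
    z * b * (z * b) = 1 ∧ rp (z * b) = rp b := by decide +kernel

theorem syl_T : Syl 2 Held.HM.T ⊤ := by
  obtain ⟨P, e⟩ := (Held.Ctx.syl (φ := MonoidHom.id HM) ⟨fun _ _ => id, fun g _ => ⟨g, rfl⟩⟩).exists_sylow_top
  rw [Subgroup.map_id] at e
  exact e ▸ syl_sylow_top P

universe u
variable {G : Type u} [Group G] [Finite G] {φ : UT →* G} {j g k x y : G} {a b c d : UT} {π : 𝐂₁ j →* HM}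
  {K : Subgroup G}

/-- coordinates for the centralizer modulo its core -/
structure Cx (j : G) (φ : UT →* G) (π : 𝐂₁ j →* HM) : Prop extends SM φ where
  pz : φ z = j
  sur : Function.Surjective π
  ker : ∀ x, π x = 1 ↔ x.1 ∈ Oc 2 j
  lift : ∀ a (x : 𝐂₁ j), x.1 = φ a → π x = a.v

theorem mem_Oc {a : G} {x : 𝐂₁ a} : x ∈ oddCore (𝐂₁ a) ↔ (x : G) ∈ Oc 2 a := by
  rw [← show _ = Oc 2 a from map_pPrimeCore p2 _]
  exact (mem_map_iff_mem (subtype_injective _)).symm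

theorem exists_cx (h : SM φ) (hp : commutator G = ⊤) : ∃ ψ π, Cx (φ z) ψ π := by
  obtain ⟨e⟩ := exists_HM (sm_bar h) hz_bar Solv.pPrimeCore_quotient_pPrimeCore (by
    simp only [List.forall_mem_cons, List.not_mem_nil, false_imp_iff, implies_true, and_true]
    exact ⟨(show γ e25 = e14 by decide +kernel) ▸ mv_bar h hp γ_γ (by decide +kernel),
      mv_bar h hp (α := MonoidHom.id _) (fun _ => rfl) rfl⟩)
  obtain ⟨n, -, r⟩ := (syl_map_top (f := e.symm.toMonoidHom) e.symm.surjective (sm_bar h).syl).syl_conj syl_T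
  let f := (e.symm.trans (MulAut.conj n)).toMonoidHom
  have i := (e.symm.trans (MulAut.conj n)).injective.comp (sm_bar h).inj
  have r : Held.HM.T = (f.comp (bar φ)).range := by rw [r, MonoidHom.range_comp f, cj, map_map]; rfl
  let α := (eT.trans (MulEquiv.subgroupCongr r)).trans (MonoidHom.ofInjective (f := f.comp (bar φ)) i).symm
  have αz : α z = z := (ctr fun b => by
    obtain ⟨b, rfl⟩ := α.surjective b
    rw [← map_mul, ← cz, map_mul]).resolve_left (mt α.map_eq_one_iff.1 z1)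
  refine ⟨φ.comp α.toMonoidHom, f.comp (QuotientGroup.mk' _), ⟨h.inj.comp α.injective, ?_⟩, congrArg φ αz,
    (e.symm.trans (MulAut.conj n)).surjective.comp (QuotientGroup.mk'_surjective _), fun x => ?_, fun a x q => ?_⟩
  · rw [MonoidHom.range_comp, MonoidHom.range_eq_top.2 α.surjective, ← MonoidHom.range_eq_map]; exact h.syl
  · exact (e.symm.trans (MulAut.conj n)).map_eq_one_iff.trans ((QuotientGroup.eq_one_iff x).trans mem_Oc)
  · obtain rfl : x = φ.codRestrict _ (mem_cz φ) (α a) := Subtype.ext q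
    exact MonoidHom.apply_ofInjective_symm (f := f.comp (bar φ)) i _

/-- conjugate by an element of `K` -/
def Cn (φ : UT →* G) (K : Subgroup G) (a b : UT) : Prop := ∃ g ∈ K, Cj φ g a b

theorem Cn.trans (h : Cn φ K a b) (k : Cn φ K b c) : Cn φ K a c :=
  let ⟨_, hg, h⟩ := h; let ⟨_, hx, k⟩ := k; ⟨_, mul_mem hx hg, h.comp k⟩

theorem Cn.symm (h : Cn φ K a b) : Cn φ K b a := let ⟨_, hg, h⟩ := h; ⟨_, inv_mem hg, h.symm⟩

theorem Cn.dz (h : Cn φ K a b) : Dz φ c a ↔ Dz φ c b := h.elim fun _ h => h.2.dz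

theorem Cn.fix (h : Cn φ K a b) (f : LX.Fix1 (φ a) K) : LX.Fix1 (φ b) K := let ⟨_, hg, e⟩ := h; e ▸ f.conj hg

theorem to_W {L : Subgroup UT} (h : SM φ) (wc : ∀ g, cj g (L.map φ) ≤ φ.range → g ∈ 𝐍 (L.map φ))
    (ab : ∀ a ∈ L, ∀ b ∈ L, a * b = b * a) (ha : a ∈ L) (hb : b ∈ L) (e : Dz φ a b) : Cn φ (𝐍 (L.map φ)) a b := by
  obtain ⟨g, e⟩ := e
  have l : ∀ {a}, a ∈ L → L.map φ ≤ 𝐂₁ (φ a) := fun ha _ ⟨c, hc, q⟩ => q ▸ mem_c (ab c hc _ ha)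
  obtain ⟨c, hc, n⟩ := ctl h wc (l hb) (e.cen1 ▸ cj_mono g (l ha))
  exact ⟨_, n, e.comp (.of_comm (mem_cent1.1 hc))⟩

theorem to_W1 (h : SM φ) (ha : In σ1 a.v) (hb : In σ1 b.v) (e : Dz φ a b) : Cn φ (𝐍 (W1.map φ)) a b :=
  to_W h (fun _ => wc1 h) (fun _ ha _ hb => (W1_comm (mW1.1 ha)).2 _ (mW1.1 hb)) (mW1.2 ha) (mW1.2 hb) e

theorem to_W2 (h : SM φ) (ha : In σ2 a.v) (hb : In σ2 b.v) (e : Dz φ a b) : Cn φ (𝐍 (W2.map φ)) a b :=
  to_W h (fun _ => wc2 h) (fun _ ha _ hb => (W2_comm (mW2.1 ha)).2 _ (mW2.1 hb)) (mW2.2 ha) (mW2.2 hb) e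

theorem cj1 (n : g ∈ 𝐍 (W1.map φ)) (ha : In σ1 a.v) : ∃ d : UT, In σ1 d.v ∧ Cj φ g a d :=
  (cjN n (mW1.2 ha)).imp fun _ e => ⟨mW1.1 e.1, e.2⟩

theorem cj2 (n : g ∈ 𝐍 (W2.map φ)) (ha : In σ2 a.v) : ∃ d : UT, In σ2 d.v ∧ Cj φ g a d :=
  (cjN n (mW2.2 ha)).imp fun _ e => ⟨mW2.1 e.1, e.2⟩

theorem dz_γ : Dz (φ.comp γ) z a ↔ Dz φ z (γ a) := by
  simp only [W2.Dz, Cj, MonoidHom.comp_apply, show γ z = z by decide +kernel]

namespace Cx
variable (h : Cx j φ π)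
include h

theorem gam : Cx j (φ.comp γ) (Held.HM.γ.comp π) :=
  ⟨sm_γ h.toSM, (congrArg φ (by decide +kernel)).trans h.pz,
    (Function.RightInverse.surjective Held.HM.γ_γ).comp h.sur,
    fun x => (map_eq_one_iff _ Held.HM.γ_inj).trans (h.ker x),
    fun a x e => (congrArg Held.HM.γ (h.lift _ x e)).trans (Held.HM.γ_γ _)⟩

theorem mem (a : UT) : φ a ∈ 𝐂₁ j := h.pz ▸ mem_cz φ a

theorem fix : Cj φ g z z ↔ g ∈ 𝐂₁ j := by rw [← h.pz, mem_cent1]; exact ⟨Cj.comm, .of_comm⟩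

theorem trq (e : Cj φ g a b) : a * a = 1 ↔ b * b = 1 := eq_iff h.inj (e.mul e) (Cj.one g)

theorem dz_sq (e : Dz φ a b) (aa : a * a = 1) : b * b = 1 := e.elim fun _ e => (h.trq e).1 aa

theorem cjπ (g : 𝐂₁ j) (e : Cj φ g a d) : π g * a.v * (π g)⁻¹ = d.v := by
  rw [← h.lift a ⟨_, h.mem a⟩ rfl, ← map_inv, ← map_mul, ← map_mul]
  exact h.lift _ _ e

theorem up (x : HM) {L : Subgroup UT} (hL : ∀ a ∈ L, In σT (x * a.v * x⁻¹)) :
    ∃ c : 𝐂₁ j, π c = x ∧ ∀ a ∈ L, ∃ d, Cj φ c a d ∧ d.v = x * a.v * x⁻¹ := by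
  obtain ⟨g, rfl⟩ := h.sur x
  have n : φ.range ≤ 𝐍 (Oc 2 j) := fun _ ⟨x, e⟩ => e ▸ (O_normal _ _).norm (h.mem x)
  obtain ⟨o, ho, l⟩ := exists_cj_le_of_le_sup (B := cj g.1 (L.map φ)) n (by
    rintro _ ⟨_, ⟨a, ha, rfl⟩, rfl⟩
    have m := (h.ker ((⟨_, h.mem ⟨_, hL a ha⟩⟩ : 𝐂₁ j)⁻¹ * (g * ⟨_, h.mem a⟩ * g⁻¹))).1 (by
      rw [map_mul, map_inv, map_mul, map_mul, map_inv, h.lift a ⟨_, h.mem a⟩ rfl, inv_mul_eq_one]
      exact h.lift ⟨_, hL a ha⟩ ⟨_, h.mem _⟩ rfl)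
    simpa using mul_mem (mem_sup_right (show _ ∈ φ.range from ⟨⟨_, hL a ha⟩, rfl⟩)) (mem_sup_left m))
    (cop2 ((h.pi _).cj g) (O_pi _ _)) (.inl ((h.pi _).cj g).sol)
  have q : π (⟨o, O_le _ _ ho⟩ * g) = π g := by rw [map_mul, (h.ker _).2 ho, one_mul]
  refine ⟨_, q, fun a ha => ?_⟩
  obtain ⟨d, e⟩ := l (conj_mem_cj.2 (conj_mem_cj.2 (mem_map_of_mem φ ha)))
  have e : Cj φ (⟨o, O_le _ _ ho⟩ * g : 𝐂₁ j) a d := by rw [Cj, e, coe_mul]; group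
  exact ⟨d, e, by rw [← h.cjπ _ e, q]⟩

theorem cn_rp (aa : a * a = 1) : Cn φ (𝐂₁ j) (rp a) a := by
  have e := (cls_spec a.v (congrArg UT.v aa)).1
  rw [← (rp_f a aa).1] at e
  obtain ⟨c, -, k⟩ := h.up (wit a.v) (L := zpowers (rp a)) fun b hb => mem_T.1 (by
    obtain ⟨n, rfl⟩ := hb
    rw [show (rp a ^ n).v = (rp a).v ^ n from map_zpow ι _ n, ← conj_zpow, e]
    exact zpow_mem (mem_T.2 a.ok) n)
  obtain ⟨d, k, q⟩ := k _ (mem_zpowers _)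
  exact ⟨c, c.2, k.cast rfl (UT.ext (q.trans e))⟩

theorem dz_rp (aa : a * a = 1) : Dz φ c a ↔ Dz φ c (rp a) := (h.cn_rp aa).dz.symm

theorem n1 : ¬ Dz φ z 1 := fun ⟨_, e⟩ => z_ne h.toSM e

theorem n4 : ¬ Dz φ z t := fun ⟨_, e⟩ => not_tz h.toSM ⟨_, e.symm⟩

open _root_.Classical in
theorem not_W1 (h1 : ¬ Dz φ z e14) (h2 : ¬ Dz φ z e25) : ¬ Dz φ z e24 ∧ ¬ Dz φ z r6 ∧ ¬ Dz φ z r7 := by
  obtain ⟨k, -, k0, k1, k2, k3⟩ := m_f1 (decide (Dz φ z e24)) (decide (Dz φ z r6)) (decide (Dz φ z r7))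
  generalize hp : dp (decide (Dz φ z e24)) (decide (Dz φ z r6)) (decide (Dz φ z r7)) false = p at *
  have D : ∀ {a : UT}, In σ1 a.v → (Dz φ z a ↔ p a.v = true) := fun {a} ha => by
    have aa := (W1_comm ha).1
    rw [← hp, ← m_f2 a.v ha _ _ _ (decide (Dz φ z r8)), h.dz_rp aa, dp, rp]
    have := (cls_spec a.v (congrArg UT.v aa)).2
    generalize cls a.v = i at this ⊢
    interval_cases i <;> simp [rq, h.n1, dz_z, h1, h2, h.n4]
  have mul : ∀ {a b : UT}, In σ1 a.v → In σ1 b.v → In σ1 (a * b).v := fun ha hb =>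
    mW1.1 (mul_mem (mW1.2 ha) (mW1.2 hb))
  have hz : In σ1 z.v := by decide +kernel
  have key : ∀ r : UT, In σ1 r.v → Dz φ z r → Inv1 p k r.v := fun r hr d y hy py => by
    obtain ⟨g, n, e⟩ := to_W1 h.toSM hz hr d
    have P : ∀ {a b}, Cj φ g a b → In σ1 a.v → In σ1 b.v → p a.v = p b.v := fun q ha hb =>
      Bool.eq_iff_iff.2 ((D ha).symm.trans (q.dz.trans (D hb)))
    obtain ⟨y, rfl⟩ : ∃ a : UT, a.v = y := ⟨⟨y, (Held.HM.W1_comm y hy).2.1⟩, rfl⟩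
    obtain ⟨x, hx, q⟩ := cj1 (inv_mem n) hy
    have q : Cj φ g x y := inv_inv g ▸ q.symm
    refine (k0 x.v hx ((P q hx hy).trans py)).imp (fun s => congrArg UT.v (tr h.inj e q (UT.ext s)))
      (Or.imp (fun s => (congrArg _ (P (e.mul q) (mul hz hx) (mul hr hy))).symm.trans s) ?_)
    rintro ⟨u, hu, s, s1, s2⟩
    obtain ⟨u, rfl⟩ : ∃ a : UT, a.v = u := ⟨⟨u, (Held.HM.W1_comm u hu).2.1⟩, rfl⟩
    obtain ⟨v, hv, w⟩ := cj1 n hu
    refine ⟨v.v, hv, ?_, fun o => s1 (congrArg UT.v ((eq_iff h.inj w e).2 (UT.ext o))),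
      fun o => s2 (congrArg UT.v ((eq_iff h.inj w q).2 (UT.ext o)))⟩
    have a1 := P (e.mul w) (mul hz hu) (mul hr hv)
    have a2 := P (q.mul w) (mul hx hu) (mul hy hv)
    have a3 := P ((e.mul q).mul w) (mul (mul hz hx) hu) (mul (mul hr hy) hv)
    exact (congr (congr (congr (congrArg _ (P w hu hv)) a1) a2) a3).symm.trans s
  exact ⟨fun e => k1 (decide_eq_true e) (key _ (by decide +kernel) e),
    fun e => k2 (decide_eq_true e) (key _ (by decide +kernel) e),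
    fun e => k3 (decide_eq_true e) (key _ (by decide +kernel) e)⟩

theorem dz_or (h0 : 𝒪 (⊤ : Subgroup G) = ⊥) (n : j ∉ 𝐂 (⊤ : Subgroup G)) : Dz φ z e14 ∨ Dz φ z e25 := by
  by_contra! hn
  obtain ⟨k1, k2, k3⟩ := h.not_W1 hn.1 hn.2
  have k4 := (h.gam.not_W1 (fun e => hn.2 ((show γ e14 = e25 by decide +kernel) ▸ dz_γ.1 e))
    fun e => hn.1 ((show γ e25 = e14 by decide +kernel) ▸ dz_γ.1 e)).2.2
  rw [dz_γ, h.dz_rp (by decide +kernel), show rp (γ r7) = r8 by decide +kernel] at k4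
  refine n (h.pz ▸ zstar_cent h0 h.syl ⟨z, rfl⟩ fun g _ ⟨a, e⟩ => ?_)
  have d : Dz φ z a := ⟨g, e.symm⟩
  have aa := h.dz_sq d zz
  have d' := (h.dz_rp aa).1 d
  rcases (rp_f a aa).2.2 with r | r | r | r | r | r | r | r | r
  · exact absurd (r ▸ d) h.n1
  · rw [← e, r]
  all_goals rw [r] at d'
  exacts [absurd d' hn.1, absurd d' hn.2, absurd d' h.n4, absurd d' k1, absurd d' k2, absurd d' k3, absurd d' k4]

theorem syl_t : Syl 2 ((𝐂₁ t).map φ) (𝐂₁ (φ t)) := by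
  have l : (𝐂₁ t).map φ ≤ 𝐂₁ (φ t) := h.cent t ▸ inf_le_right
  obtain ⟨R, hR, m⟩ := exists_syl_le (le_inf l (le_norm_self _)) (h.pi _)
  refine syl_of_syl_norm l (le_antisymm (fun r hr => ?_) m ▸ hR)
  obtain ⟨d, -, q⟩ := cjN (hR.le hr).2 (a := ⟨⟨nat_lit 17592515, by decide +kernel⟩, by decide +kernel⟩)
    (mem_cent1.2 (by decide +kernel))
  have := ((q.mul q).mul (q.mul q)).cast (show _ = z by decide +kernel) rfl
  rcases (p4 d).2 with e | e <;> rw [e] at this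
  · exact absurd this (z_ne h.toSM)
  have c := mul_inv_eq_iff_eq_mul.1 (h.cjπ ⟨r, h.fix.1 this⟩ (.of_comm (mem_cent1.1 (hR.le hr).1)))
  let a : UT := ⟨_, (Held.t_fact _ c).1⟩
  have ha : φ a ∈ (𝐂₁ t).map φ := mem_map_of_mem φ (mem_cent1.2 (UT.ext c))
  have o := (h.ker ((⟨_, h.mem a⟩ : 𝐂₁ j)⁻¹ * ⟨r, h.fix.1 this⟩)).1 (by
    rw [map_mul, map_inv, h.lift a _ rfl, inv_mul_cancel])
  exact inv_mul_eq_one.1 ((hR.pi.elt (mul_mem (inv_mem (m ha)) hr)).eq_one ((O_pi _ _).elt o)) ▸ ha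

end Cx

end CF.HL
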