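-- copy of `Loc.HL7` avoiding a name clash (`Comp.syl_inf`) with `Sig.S4D`
/-
Simple groups with Sylow 2-subgroups of type `L₅(2)`.
-/
import Cfsg.Agent.TmX.HL6
import Cfsg.Agent.Sig.SftD
import Cfsg.Agent.Hyp.FTProof
import Cfsg.Agent.Classical.Transport
set_option autoImplicit false
set_option linter.unusedSectionVars false
set_option maxRecDepth 100000
set_option synthInstance.maxSize 100000

namespace CF.HL
open Subgroup Cfsg CF.BG CF.Sig CF.GW CF.Ab2 CF.Cl2 CF.Comp CF.W2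
open CF.Held (HM Sh Three)
open CF.Held.HM (In σT σ1 σ2 σE σS σU σP mem_T mem_W1 mem_W2 mem_U)

theorem play_HM : pLayer 2 HM = ⊥ := by
  have sq : ∀ a ∈ Held.HM.U, a * a = 1 := fun a ha => (Held.HM.U_comm a (mem_U.1 ha)).1
  have l : PLay 2 (⊤ : Subgroup HM) ≤ Held.HM.U := fun x hx => by
    have c := cent_anti (le_O ⟨le_top, Held.HM.norm_U⟩ (ab_mk sq).pi) (PLay_cent_O p2 _ hx)
    exact ⟨cent_le_cent1 (mem_U.2 (by decide +kernel)) c, cent_le_cent1 (mem_U.2 (by decide +kernel)) c,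
      cent_le_cent1 (mem_U.2 (by decide +kernel)) c⟩
  rw [← PLay_top p2, ← PLay_perfect, comm_eq_bot]
  exact (ab_mk sq).abel.mono l

universe u
variable {G : Type u} [Group G] [Finite G] {φ : UT →* G} {j g x y : G} {a b c d : UT} {π : 𝐂₁ j →* HM}

namespace Cx
variable (h : Cx j φ π)
include h

theorem ker_eq : π.ker = oddCore (𝐂₁ j) := Subgroup.ext fun x => (h.ker x).trans mem_Oc.symm

theorem play (e : Dz φ z a) : PLay 2 (𝐂₁ (φ a)) = ⊥ := by
  obtain ⟨g, e⟩ := e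
  have l := map_pLayer_of_coprime_ker (p := 2) h.sur (h.ker_eq ▸ Solv.pPrimeCore_coprime)
  rw [play_HM, Subgroup.map_eq_bot_iff, h.ker_eq] at l
  rw [← e.cen1, ← cj_PLay p2, h.pz, PLay_eq_bot_iff.2 fun K k => k.not_pi' p2
    ((O_pi _ _).le (k.le_PLay.trans ((map_mono l).trans (map_pPrimeCore p2 _).le))), cj_bot]

theorem core_bot [IsSimpleGroup G] (d3 : Dz φ z e25) : Oc 2 j = ⊥ := by
  have f : FP (φ z) (φ e25) := FP.map h.inj ⟨.mk' z1 zz, .mk' (by decide +kernel) (by decide +kernel),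
    by decide +kernel, by decide +kernel⟩
  have dU : ∀ a ∈ U, a ≠ 1 → Dz φ z a := fun a ha a1 => by
    rcases (by decide +kernel : ∀ a : UT, In σU a.v → a = 1 ∨ a = z ∨ a * a = 1 ∧ rp a = e25) a (mU.1 ha) with
      r | r | r
    exacts [absurd r a1, r ▸ dz_z, (h.dz_rp r.1).2 (r.2 ▸ d3)]
  obtain ⟨W, hW⟩ : ∃ W, W = Gen (V4 (φ z) (φ e25)) (Oc 2) ⊤ := ⟨_, rfl⟩
  have ge : ∀ {L : Subgroup UT}, z ∈ L → e25 ∈ L → (∀ a ∈ L, a * e25 = e25 * a) → Gen (L.map φ) (Oc 2) ⊤ = W := by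
    intro L m1 m2 c
    refine hW ▸ le_antisymm (Gen_top_le ?_) (Gen_top_le fun a ha => le_Gen_top (sup_le (zpowers_le.2
      (mem_map_of_mem φ m1)) (zpowers_le.2 (mem_map_of_mem φ m2)) ha))
    rintro _ ⟨b, hb, rfl⟩ -
    have k : ∀ {v}, v ∈ U → v ≠ 1 → b * v = v * b → φ v ∈ V4 (φ z) (φ e25) →
        Oc 2 (φ b) ⊓ 𝐂₁ (φ v) ≤ Gen (V4 (φ z) (φ e25)) (Oc 2) ⊤ := fun hv v1 e m =>
      (Oc_bal p2 (h.e2 b) (mem_c e) (h.play (dU _ hv v1))).trans (le_Gen_top m (map_ne h.inj v1))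
    refine f.le_of_cent ((O_normal _ _).norm (mem_c (cz b).symm)) ((O_normal _ _).norm (mem_c (c b hb).symm))
      (GW.odd_iff_pi.2 (O_pi _ _)) (k (mU.2 (by decide +kernel)) z1 (cz b) (left_mem_V4 _ _))
      (k (mU.2 (by decide +kernel)) (by decide +kernel) (c b hb) (right_mem_V4 _ _)) ?_
    rw [← map_mul]
    exact k (mU.2 (by decide +kernel)) (by decide +kernel) (by rw [← mul_assoc, cz, mul_assoc, c b hb, mul_assoc])
      (map_mul φ .. ▸ mul_mem (left_mem_V4 _ _) (right_mem_V4 _ _))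
  have gU := ge (L := U) (mU.2 (by decide +kernel)) (mU.2 (by decide +kernel)) fun a ha =>
    UT.ext ((Held.HM.U_comm _ (mU.1 ha)).2.2.2 _ (by decide +kernel))
  have o : Od W := gU ▸ pi_Gen_Oc (ab_mk (by
      rintro _ ⟨a, ha, rfl⟩; exact map_sq (UT.ext (Held.HM.U_comm _ (mU.1 ha)).1)))
    (by rw [card_map h.inj, card_U, show 16 = 2 ^ 4 from rfl, logn_pow p2]; decide) (by
      rintro _ ⟨a, ha, rfl⟩ a1; exact h.play (dU a ha fun e => a1 (e ▸ map_one φ)))
  have l : Oc 2 j ≤ W := hW ▸ h.pz ▸ le_Gen_top (left_mem_V4 _ _) f.l.ne_one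
  have B : Big j φ (𝐍 W) := by
    refine ⟨fun g hg => ?_, ge (L := W1) (mW1.2 (by decide +kernel)) (mW1.2 (by decide +kernel)) (fun a ha =>
      (W1_comm (mW1.1 ha)).2 _ (by decide +kernel)) ▸ norm_Gen_Oc 2 _, ge (L := W2) (mW2.2 (by decide +kernel))
      (mW2.2 (by decide +kernel)) (fun a ha => (W2_comm (mW2.1 ha)).2 _ (by decide +kernel)) ▸ norm_Gen_Oc 2 _⟩
    have w : ∀ a ∈ U, π ⟨g, hg⟩ * a.v * (π ⟨g, hg⟩)⁻¹ ∈ Held.HM.U := fun a ha =>
      conj_mem_of_norm (Held.HM.norm_U (mem_top _)) ha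
    obtain ⟨c, e, m⟩ := h.up (π ⟨g, hg⟩) (L := U) fun a ha => (Held.HM.U_comm _ (mem_U.1 (w a ha))).2.1
    have n : c.1 ∈ 𝐍 W := gU ▸ norm_Gen_Oc 2 _ (mem_norm_of (by
      rintro _ ⟨a, ha, rfl⟩
      obtain ⟨d, p, q⟩ := m a ha
      exact ⟨d, show d.v ∈ _ from q ▸ w a ha, Eq.symm p⟩))
    exact (mul_mem_cancel_right (inv_mem n)).1 (le_norm_self W (l ((h.ker (⟨g, hg⟩ * c⁻¹)).1
      (by rw [map_mul, map_inv, e, mul_inv_cancel]))))
  have t : 𝐍 W = ⊤ := (em (Dz φ z e14)).elim (h.top_A B · d3) (h.top_B B d3)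
  refine eq_bot_iff.2 (l.trans ((normalIn_top.1 ⟨le_top, t.ge⟩).eq_bot_or_eq_top.resolve_right fun e => ?_).le)
  exact f.l.ne_one ((h.e2 z).eq_one (o.elt (e ▸ mem_top _)))

end Cx

theorem three [IsSimpleGroup G] (h : SM φ) : Three G := by
  have na : ¬ ∀ a b : G, a * b = b * a := fun k => absurd (h.inj (by rw [map_mul, map_mul, k]) :
    e12 * e23 = e23 * e12) (by decide +kernel)
  obtain ⟨ψ, π, k⟩ := exists_cx h ((inferInstance : (commutator G).Normal).eq_bot_or_eq_top.resolve_left fun e =>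
    na fun a b => commutatorElement_eq_one_iff_mul_comm.1 (mem_bot.1 (e ▸ commutator_mem_commutator
      (mem_top a) (mem_top b))))
  have i := ivz h
  have o := (k.dz_or ((normalIn_top.1 (O_normal _ _)).eq_bot_or_eq_top.resolve_right fun e =>
    i.ne_one ((h.e2 z).eq_one ((O_pi _ _).elt (e ▸ mem_top _)))) fun c => na fun a b => by
      have := (inferInstance : (center G).Normal).eq_bot_or_eq_top.resolve_left fun e =>
        i.ne_one (mem_bot.1 (e ▸ mem_center_iff.2 fun g => c g (mem_top g)))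
      exact mem_center_iff.1 (this ▸ mem_top b) a).elim
    (fun d => k.gam.core_bot (dz_γ.2 ((show γ e25 = e14 by decide +kernel) ▸ d))) k.core_bot
  exact (Held.exists_ctx i (MulEquiv.ofBijective π ⟨(injective_iff_map_eq_one π).2 fun x e =>
    Subtype.ext (mem_bot.1 (o ▸ (k.ker x).1 e)), k.sur⟩).symm).1.simple

theorem psl5 {F : Type*} [Field F] [Fintype F] (hF : Fintype.card F = 2) :
    Nonempty (Matrix.SpecialLinearGroup (Fin 5) (ZMod 2) ≃* Matrix.ProjectiveSpecialLinearGroup (Fin 5) F) := by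
  obtain ⟨e⟩ := Classical.nonempty_ringEquiv_zmod (K := F) (p := 2) (Nat.card_eq_fintype_card.trans hF)
  have c : center (Matrix.SpecialLinearGroup (Fin 5) (ZMod 2)) = ⊥ := eq_bot_iff.2 fun A hA => by
    obtain ⟨r, h1, h2⟩ := Matrix.SpecialLinearGroup.mem_center_iff.1 hA
    obtain rfl := (by decide : ∀ r : ZMod 2, r ^ Fintype.card (Fin 5) = 1 → r = 1) r h1
    exact Subtype.ext (h2.symm.trans (map_one _))
  exact ⟨(QuotientGroup.quotientBot.symm.trans (QuotientGroup.quotientMulEquivOfEq c.symm)).trans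
    (Classical.pslCongr _ e.symm)⟩

theorem T_L5 (P : Sylow 2 (Matrix.SpecialLinearGroup (Fin 5) (ZMod 2))) : Nonempty (UT ≃* P) := by
  have hs : (Held.toSL 17043537 17043537 (by decide +kernel)).1 = Matrix.transvection 0 1 1 := by decide +kernel
  obtain ⟨f⟩ := Held.exists_equiv hs
  obtain ⟨e⟩ := SW.T_equiv (SW.ctx_of (ord2 (H := Matrix.SpecialLinearGroup (Fin 5) (ZMod 2))
    (by decide +kernel) (by decide +kernel)) f) P
  exact ⟨eT.trans e⟩

theorem three_of_syl [IsSimpleGroup G] (S : Sylow 2 G) (e : UT ≃* S) : Three G :=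
  three (φ := S.1.subtype.comp e.toMonoidHom) ⟨Subtype.val_injective.comp e.injective, by
    rw [MonoidHom.range_comp, MonoidHom.range_eq_top.2 e.surjective, map_top_subtype]; exact syl_sylow_top S⟩

end CF.HL
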