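-- copy of `Geom.Tm12` avoiding a name clash (`Comp.syl_inf`) with `Sig.S4D`
import Cfsg.Agent.TmX.Tm11

/-! The second degenerate case, and the case division. -/

namespace CF.Geom.Tm
open Subgroup CF.BG CF.Xs
open scoped commutatorElement
set_option linter.unusedSectionVars false

universe u
variable {G : Type u} [Group G] [Finite G]
variable {𝒞 Φ : Set (Subgroup G)} {W A B D E F P R C V U T K L H S Y V₀ V₁ : Subgroup G}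
  {a b c d e f g k t u v w x y z : G} {m q : ℕ}

/-- a member together with its neighbours -/
def Lam (𝒞 : Set (Subgroup G)) (A : Subgroup G) : Set (Subgroup G) := {E | E = A ∨ Adj 𝒞 A E}

theorem Lam_self : A ∈ Lam 𝒞 A := .inl rfl

theorem Lam_mem (hA : A ∈ 𝒞) (hE : E ∈ Lam 𝒞 A) : E ∈ 𝒞 := hE.elim (· ▸ hA) (·.hR)

theorem Lam_cj (h : TIC 𝒞) (g : G) (hE : E ∈ Lam 𝒞 A) : cj g E ∈ Lam 𝒞 (cj g A) :=
  hE.imp (congrArg _) (·.cj h g)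

theorem Lam_of (h : TIC 𝒞) (hA : A ∈ 𝒞) (hE : E ∈ 𝒞) (hx : x ∈ E) (x1 : x ≠ 1) (n : x ∈ 𝐍 A) :
    E ∈ Lam 𝒞 A := adj_or h hA hE hx x1 n

theorem Tri.adj (τ : Tri 𝒞) (h : TIC 𝒞) (hE : E ∈ Lam 𝒞 A) (hF : F ∈ Lam 𝒞 A) (ne : E ≠ F) : Adj 𝒞 E F := by
  rcases hE with rfl | s <;> rcases hF with rfl | s'
  exacts [absurd rfl ne, s', s.symm h, τ s s' ne]

theorem Tri.Lam_eq (τ : Tri 𝒞) (h : TIC 𝒞) (hE : E ∈ Lam 𝒞 A) : Lam 𝒞 E = Lam 𝒞 A := by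
  have k : ∀ {A E}, E ∈ Lam 𝒞 A → Lam 𝒞 A ⊆ Lam 𝒞 E := fun hE F hF =>
    or_iff_not_imp_left.2 fun ne => τ.adj h hE hF (Ne.symm ne)
  exact (k (hE.elim (fun e => .inl e.symm) fun s => .inr (s.symm h))).antisymm (k hE)

/-- the group generated by the invariant subgroups of a clique -/
def NL (𝒞 : Set (Subgroup G)) (A : Subgroup G) : Subgroup G := closure {x | ∃ E ∈ Lam 𝒞 A, x ∈ Is E}

theorem le_NL (hE : E ∈ Lam 𝒞 A) : Is E ≤ NL 𝒞 A := fun _ h => subset_closure ⟨E, hE, h⟩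

theorem cj_NL (h : TIC 𝒞) (g : G) (A : Subgroup G) : cj g (NL 𝒞 A) = NL 𝒞 (cj g A) := by
  have k : ∀ (g : G) A, cj g (NL 𝒞 A) ≤ NL 𝒞 (cj g A) := fun g A => cj_closure_le fun x ⟨E, hE, k⟩ =>
    ⟨_, Lam_cj h g hE, cj_Is g E ▸ conj_mem_cj.2 k⟩
  exact le_antisymm (k g A) (le_cj_iff.2 (by simpa using k g⁻¹ (cj g A)))

theorem norm_NL (h : TIC 𝒞) : 𝐍 A ≤ 𝐍 (NL 𝒞 A) := fun g hg => cj_eq_self.1 (by rw [cj_NL h, cj_of_norm hg])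

theorem Tri.NL_eq (τ : Tri 𝒞) (h : TIC 𝒞) (hE : E ∈ Lam 𝒞 A) : NL 𝒞 E = NL 𝒞 A := by
  rw [NL, τ.Lam_eq h hE, NL]

theorem Tri.NL_norm (τ : Tri 𝒞) (h : TIC 𝒞) (hE : E ∈ Lam 𝒞 A) : NL 𝒞 A ≤ 𝐍 E :=
  (closure_le _).2 fun x ⟨F, hF, k⟩ => by
    by_cases e : F = E
    · exact le_norm_self _ (Is_le (e ▸ k))
    · exact ((τ.adj h hF hE e).Is_le h k).2

theorem Tri.NL_sq (τ : Tri 𝒞) (h : TIC 𝒞) (hA : A ∈ 𝒞) : ∀ w ∈ NL 𝒞 A, w * w = 1 := closure_sq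
  (fun _ ⟨_, hE, k⟩ => h.sq (Lam_mem hA hE) (Is_le k)) fun x ⟨E, hE, k⟩ y ⟨F, hF, k'⟩ => by
  by_cases e : E = F
  · exact h.comm (Lam_mem hA hE) (Is_le k) (Is_le (e ▸ k'))
  · have s := τ.adj h hE hF e
    exact s.comm h (s.Is_le h k) ((s.symm h).Is_le h k')

theorem Tri.NL_sc (τ : Tri 𝒞) (h : TIC 𝒞) (n : ∀ A ∈ 𝒞, Is A ≠ ⊥) (hA : A ∈ 𝒞) : Ab2.SC (NL 𝒞 A) ⊤ := by
  obtain ⟨S, hS, -, SA⟩ := tic_syl h hA
  have sq := τ.NL_sq h hA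
  have l : NL 𝒞 A ≤ S := fun w hw => by
    have := hS.eq_of_le (K := S ⊔ NL 𝒞 A) le_sup_left le_top
      (hS.pi.sup (pi_of_sq sq) (.inl (SA.trans (norm_NL h))))
    exact this ▸ mem_sup_right hw
  refine Ab2.sc_of_syl hS l (Ab2.ab_mk sq) fun a ha g _ uS => ?_
  obtain ⟨T, j, hT, l₁, l₂, hu⟩ := sc_aux (pi_of_sq sq) (abel_of_forall fun _ ha _ hb => comm_of_sq sq ha hb)
    hS.pi ha g
  obtain ⟨i, l₃⟩ := tic_two h hA hT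
  obtain ⟨b, hb, b1⟩ := exists_mem_ne_one (n _ (h.cj j hA))
  obtain ⟨f, hf, f1, c⟩ := exists_fix1 (fun _ k => h.sq hA (Is_le k)) (norm_Is (SA uS))
    (by rw [conj_mul, sq a ha]; simp) (n A hA)
  rw [cj_NL h] at l₂ hu
  rw [τ.NL_eq h (Lam_of h (h.cj i hA) (h.cj j hA) (Is_le hb) b1 (l₃ (l₂ (le_NL Lam_self hb))))] at hu
  rwa [τ.NL_eq h (Lam_of h (h.cj i hA) hA (Is_le hf) f1 (l₃ (l₁ ⟨l (le_NL Lam_self hf), mem_cent1.2 c⟩)))]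

theorem par (n : L ⊴ ⊤) (xx : x * x = 1) (hy : y ∈ L) (i : ℕ) : (x * y) ^ i ∈ L ∨ x * (x * y) ^ i ∈ L := by
  induction i with
  | zero => simp [one_mem]
  | succ i ih =>
    rcases ih with k | k
    · exact .inr (by simpa only [pow_succ, inv_of_sq xx, mul_assoc] using mm (n.conj_mem (mem_top x) k) hy)
    · exact .inl (by
        simpa only [pow_succ, inv_of_sq xx, mul_assoc, sq_left xx] using mm (n.conj_mem (mem_top x) k) hy)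

theorem Gl.not_Is (h : Gl 𝒞) (β : Big 𝒞 m q) (n : ∀ A ∈ 𝒞, Is A ≠ ⊥) : False := by
  have H := h.toTIC
  have τ : Tri 𝒞 := β.tri_Is n
  obtain ⟨L, nL, ns, c⟩ := h.exists_L
  have nb : ∀ {A}, A ∈ 𝒞 → NL 𝒞 A ≠ ⊥ := fun hA => ne_bot_mono (n _ hA) (le_NL Lam_self)
  have i : ∀ {A}, A ∈ 𝒞 → Ab2.IF L (NL 𝒞 A) := fun hA => gs nL ns c (τ.NL_sc H n hA) (nb hA)
  have ex : ∀ {A w}, A ∈ 𝒞 → w ∈ NL 𝒞 A → w ≠ 1 → ∃ E ∈ 𝒞, w ∈ E ∧ NL 𝒞 E = NL 𝒞 A := fun {A w} hA hw w1 => by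
    obtain ⟨z, hz, -, tr⟩ := (i hA).tr
    obtain ⟨a, ha, a1⟩ := exists_mem_ne_one (n A hA)
    obtain ⟨g, hg, rfl⟩ := tr a (le_NL Lam_self ha) a1 w hw w1
    exact ⟨_, h.cj g hA, conj_mem_cj.2 (Is_le ha), by rw [← cj_NL H, cj_of_norm (zpowers_le.2 hz.2 hg)]⟩
  have ti : ∀ {A B w}, A ∈ 𝒞 → B ∈ 𝒞 → w ∈ NL 𝒞 A → w ∈ NL 𝒞 B → w ≠ 1 → NL 𝒞 A = NL 𝒞 B :=
    fun hA hB k k' w1 => by
      obtain ⟨E, hE, e, e'⟩ := ex hA k w1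
      obtain ⟨F, hF, f, f'⟩ := ex hB k' w1
      rw [← e', ← f', h.ti hE hF e f w1]
  have cn : ∀ {A w g}, A ∈ 𝒞 → w ∈ NL 𝒞 A → w ≠ 1 → g * w = w * g → g ∈ 𝐍 (NL 𝒞 A) := fun hA k w1 e => by
    obtain ⟨E, hE, e₁, e'⟩ := ex hA k w1
    exact e' ▸ norm_NL H (h.norm_of_comm hE e₁ w1 e)
  have K : Clq {W | ∃ A ∈ 𝒞, NL 𝒞 A = W} ⊥ := by
    refine ⟨?_, ?_, ?_, fun w hw => by simp [mem_bot.1 hw], fun _ => by simp, fun _ => bot_le, ?_, ?_, ?_⟩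
    · rintro _ x ⟨A, hA, rfl⟩ hx
      exact τ.NL_sq H hA x hx
    · rintro _ _ x ⟨A, hA, rfl⟩ ⟨B, hB, rfl⟩
      exact ti hA hB
    · rintro _ _ x - ⟨B, hB, rfl⟩ -
      exact ⟨_, h.cj x hB, (cj_NL H x B).symm⟩
    · rintro _ _ x ⟨A, hA, rfl⟩ ⟨B, hB, rfl⟩ ne hx hx'
      exact mem_bot.2 (by_contra fun x1 => ne (ti hA hB hx (gs_mem (i hB) ((i hA).sc.le hx) hx'
        (τ.NL_sq H hA x hx)) x1))
    · rintro _ ⟨A, hA, rfl⟩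
      simpa using exists_mem_ne_one (nb hA)
    · rintro _ _ x y ⟨A, hA, rfl⟩ ⟨B, hB, rfl⟩ ne hx x1 hy y1
      by_contra ev
      obtain ⟨j, z1, zz, c1, c2⟩ := dih_even (τ.NL_sq H hA x hx) (τ.NL_sq H hB y hy) ev
      have zL := pow_mem (mm ((i hA).sc.le hx) ((i hB).sc.le hy)) j
      exact ne (ti hA hB (gs_mem (i hA) zL (cn hA hx (mt mem_bot.2 x1) c1) zz)
        (gs_mem (i hB) zL (cn hB hy (mt mem_bot.2 y1) c2) zz) z1)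
  obtain ⟨A, hA⟩ := h.ex
  obtain ⟨V, B, s⟩ := β.exists_dl hA
  have hB : B ∈ Lam 𝒞 A := .inr (β.adj s)
  obtain ⟨x, hx, hx'⟩ := h.exists_notMem hA s.hD s.ne
  have xx := h.sq hA hx
  have xW := norm_NL H (le_norm_self _ hx)
  have xL : x ∉ L := fun e => hx' (τ.NL_norm H hB (gs_mem (i hA) e xW xx))
  obtain ⟨g, ne⟩ : ∃ g, NL 𝒞 (cj g A) ≠ NL 𝒞 A := by_contra fun e => nb hA (h.bot_of_pi
    ⟨le_top, fun g _ => cj_eq_self.1 (by rw [cj_NL H]; exact by_contra fun k => e ⟨g, k⟩)⟩ (pi_of_sq (τ.NL_sq H hA)))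
  have hE := h.cj g hA
  generalize cj g A = E at *
  obtain ⟨y, hy, y1⟩ := exists_mem_ne_one (nb hE)
  have yy := τ.NL_sq H hE y hy
  have yL := (i hE).sc.le hy
  obtain ⟨j, u1, uu, c1, c2⟩ := dih_even xx yy (not_odd_of nL xx yy xL yL)
  have uA := h.norm_of_comm hA hx (fun e => xL (e ▸ one_mem _)) c1
  have uW := norm_NL H uA
  have uE := cn hE hy y1 c2
  have k := (par nL xx yL j).resolve_left fun e => ne (ti hE hA (gs_mem (i hE) e uE uu) (gs_mem (i hA) e uW uu) u1)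
  generalize (x * y) ^ j = u at *
  have w := gs_mem (i hA) k (mm xW uW) (sq_mul xx uu c1)
  have sq := τ.NL_sq H hA
  have br : ∀ b ∈ NL 𝒞 A, ⁅b, u⁆ = ⁅b, x⁆ := fun b hb => by
    rw [← br_mul_comm (c := x) (comm_of_sq sq hb w), sq_left xx]
  obtain ⟨b, hb, b1⟩ := exists_mem_ne_one (n B s.hD)
  obtain ⟨κ, κ1, κ2⟩ := K.lemF ⟨A, hA, rfl⟩ ⟨E, hE, rfl⟩ ne.symm (nz_of_sq (by
      rintro _ ⟨B, hB, rfl⟩
      exact ⟨_, h.cj u hB, (cj_NL H u B).symm⟩) (by simp) uu) uu uW uE (le_NL hB hb) fun e =>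
    hx' (h.norm_of_comm s.hD (Is_le hb) b1 (br_one.1 (br b (le_NL hB hb) ▸ mem_bot.1 e)).symm)
  have ab := K.abel ⟨A, hA, rfl⟩
  have le := κ1.le0 κ2 ab le_rfl κ1.nP (inf_le_left : _ ⊓ 𝐂₁ u ≤ _) fun _ e => mem_cent1.1 e.2
  rw [← (Bil.of_abel ab uW).card] at le
  have uA : x * u ∈ A := cm_le.2 (fun b hb => br b hb ▸ br_right hx (τ.NL_norm H Lam_self hb)) ((eq_of_card_le
    (K := NL 𝒞 A ⊓ 𝐂₁ u) (cm_le.2 fun b hb => ⟨br_left hb uW, mem_cent1.2 (br_br_self sq uW uu hb)⟩)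
    (Nat.le_of_mul_le_mul_left le Nat.card_pos)).ge ⟨w, mem_cent1.2 (by rw [mul_assoc, uu, ← mul_assoc, c1, mul_assoc, uu])⟩)
  exact ne (ti hE hA hy (gs_mem (i hA) yL (norm_NL H (h.norm_of_comm hA ((mul_mem_cancel_left hx).1 uA) u1
    c2.symm)) yy) y1)

/-- the non-degenerate situation in a simple group -/
structure Cs (𝒞 : Set (Subgroup G)) (m q : ℕ) : Prop extends St 𝒞 m q where
  ns : Ab2.NS (⊤ : Subgroup G)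
  two : ∀ A ∈ 𝒞, ∀ V, ∃ U, Mb 𝒞 m A U ∧ V ≠ U
  irr : ∀ A ∈ 𝒞, Is A = ⊥

theorem exists_st (h : TIC 𝒞) (tr : ∀ {P R}, P ∈ 𝒞 → R ∈ 𝒞 → ∃ g, cj g P = R) (ad : Adj 𝒞 A B) :
    ∃ m q, St 𝒞 m q := by
  obtain ⟨⟨P, R⟩, ⟨hP, hR, ne⟩, mx⟩ := Set.exists_max_image {p : Subgroup G × Subgroup G | p.1 ∈ 𝒞 ∧ p.2 ∈ 𝒞 ∧
    p.1 ≠ p.2} (fun p => ♯(p.1 ⇂ p.2)) (Set.toFinite _) ⟨(A, B), ad.hP, ad.hR, ad.ne⟩
  obtain ⟨q, e⟩ := card_dvd_of_le (inf_le_left : P ⇂ R ≤ P)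
  refine ⟨_, q, h, tr, fun {D} hD => ?_, fun hD hE n => mx (_, _) ⟨hD, hE, n⟩,
    (one_lt_card.2 ad.nb).trans_le (mx (A, B) ⟨ad.hP, ad.hR, ad.ne⟩), P, R, hP, hR, ne, rfl⟩
  obtain ⟨g, rfl⟩ := tr hP hD
  rw [card_cj, e]

theorem St.one_of (s : St 𝒞 m q) (hA : A ∈ 𝒞) (u : ∀ U, Mb 𝒞 m A U → V = U) : One 𝒞 m := by
  have H := s.toTIC
  intro P R R' r r'
  obtain ⟨g, rfl⟩ := s.tr hA r.hP
  obtain ⟨U, B, d⟩ := s.exists_dl r.hP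
  have e : ∀ {U}, Mb 𝒞 m (cj g A) U → U = cj g V := fun ⟨D, k⟩ => by
    rw [u _ (by simpa only [cj_inv_cj] using (k.cj H g⁻¹).mb), cj_cj_inv]
  have k : ∀ {R}, Adj 𝒞 (cj g A) R → Dl 𝒞 m (cj g A) U R := fun r => s.dl' d r.hR r.ne (r.inv_le H d.le
    (fun e => let ⟨_, hx, hx'⟩ := s.exists_not d; hx' (e.ge hx))
    fun k hk => cj_eq_self.1 ((e (d.mb.cj H hk)).trans (e d.mb).symm))
  exact (k r').eq ▸ k r

theorem Gl.cases (h : Gl 𝒞) :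
    (Ab2.NS (⊤ : Subgroup G) ∧ ∀ A B, ¬ Adj 𝒞 A B) ∨ ∃ m q, Cs 𝒞 m q := by
  obtain ⟨L, n, ns, -⟩ := h.exists_L
  obtain ⟨A, hA⟩ := h.ex
  by_cases ad : ∃ A B, Adj 𝒞 A B
  swap
  · refine .inl ⟨h.eq_top n hA (fun x hx => ?_) ▸ ns, fun A B s => ad ⟨A, B, s⟩⟩
    by_cases x1 : x = 1
    · exact x1 ▸ one_mem _
    exact h.mem_of_far n ns.ne hA hx fun B hB ne e => ad ⟨_, _, .mk' hA hB ne.symm hx e x1⟩
  obtain ⟨P, R, ad⟩ := ad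
  obtain ⟨m, q, s⟩ := exists_st h.toTIC h.tr ad
  have two : ∀ A ∈ 𝒞, ∀ V, ∃ U, Mb 𝒞 m A U ∧ V ≠ U := fun A hA V => by_contra fun e =>
    h.not_one s (s.one_of hA fun U k => by_contra fun ne => e ⟨U, k, ne⟩)
  have irr : ∀ A ∈ 𝒞, Is A = ⊥ := fun A hA => by_contra fun e => by
    rcases s.q_le.eq_or_lt with e' | lt
    · obtain ⟨U, ⟨B, d⟩, ne⟩ := two A hA (Is A)
      exact ne (s.Is_eq (.inl e'.symm) e'.symm d e)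
    · refine h.not_Is ⟨s, lt, two⟩ fun B hB => ?_
      obtain ⟨g, rfl⟩ := h.tr hA hB
      rwa [← cj_Is, Ne, cj_eq_bot]
  refine .inr ⟨m, q, s, h.eq_top n hA (inf_eq_right.1 (by_contra fun e => h.inf_ne n ns.ne hA
    (eq_bot_mono (irr A hA) (le_Is inf_le_right e fun g hg => mem_norm_inf (n.norm trivial) hg)))) ▸ ns, two, irr⟩

end CF.Geom.Tm
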