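-- copy of `Geom.Tm15` avoiding a name clash (`Comp.syl_inf`) with `Sig.S4D`
import Cfsg.Agent.TmX.Tm14

/-! Holt's step. -/

namespace CF.Geom.Tm
open Subgroup CF.BG CF.Xs
open scoped commutatorElement Pointwise
set_option linter.unusedSectionVars false

universe u
variable {G : Type u} [Group G] [Finite G]
variable {𝒞 Φ : Set (Subgroup G)} {W A B D E F P R C V U T K L H S Y N V₀ V₁ : Subgroup G}
  {a b c d f g k t u v w x y z a' b' : G} {m q : ℕ}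

theorem Adj.card_NN (h : TIC 𝒞) (s : Adj 𝒞 P R) : ♯(NN P R) = ♯(P ⇂ R) * ♯(P ⇂ R) := by
  rw [NN, card_sup_of_inf_bot (.inl (norm_of_cent fun a ha b hb => (s.comm h ha hb).symm))
    (eq_bot_of_forall fun u hu => h.eq_one s.hP s.hR s.ne hu.1.1 hu.2.1), s.card_eq h]

theorem Adj.adj_Ln (h : TIC 𝒞) (s : Adj 𝒞 P R) (hD : D ∈ Ln P R) (hE : E ∈ Ln P R) (ne : D ≠ E) : Adj 𝒞 D E :=
  ⟨Ln_mem h s.hP hD, Ln_mem h s.hP hE, ne, (s.clq h).res hD hE ne ▸ s.ne_Ln h hD⟩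

theorem Adj.NN_eq (h : TIC 𝒞) (s : Adj 𝒞 P R) (hD : D ∈ Ln P R) (hE : E ∈ Ln P R) (ne : D ≠ E) :
    NN D E = NN P R := eq_of_card_le (sup_le ((s.clq h).res hD hE ne ▸ inf_le_right)
      ((s.clq h).res hE hD ne.symm ▸ inf_le_right)) (by
  rw [(s.adj_Ln h hD hE ne).card_NN h, s.card_NN h, (s.clq h).res hD hE ne, s.card_Ln h hD])

theorem Adj.Ln_Lam (h : TIC 𝒞) (s : Adj 𝒞 P R) (hD : D ∈ Ln P R) : D ∈ Lam 𝒞 P :=
  or_iff_not_imp_left.2 fun ne => s.adj_Ln h left_Ln hD (Ne.symm ne)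

theorem tic_comp (h : TIC 𝒞) (hA : A ∈ 𝒞) (hB : B ∈ 𝒞) (ne : A ≠ B) (ha : a ∈ A) (ha' : a' ∈ A) (hb : b ∈ B)
    (hb' : b' ∈ B) (e : a * b = a' * b') : a = a' ∧ b = b' := by
  have : a'⁻¹ * a = 1 := h.eq_one hA hB ne (mm (im ha') ha) (by
    rw [show a'⁻¹ * a = b' * b⁻¹ by rw [inv_mul_eq_iff_eq_mul, ← mul_assoc, ← e, mul_inv_cancel_right]]
    exact mm hb' (im hb))
  obtain rfl := inv_mul_eq_one.1 this
  exact ⟨rfl, mul_left_cancel e⟩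

theorem dih_mod (x y : G) (Y : Subgroup G) :
    (∃ i, Odd i ∧ (x * y) ^ i ∈ Y) ∨ ∃ i, (x * y) ^ i ∉ Y ∧ (x * y) ^ (2 * i) ∈ Y := by
  classical
  have ex : ∃ n, 0 < n ∧ (x * y) ^ n ∈ Y := ⟨_, orderOf_pos _, pow_orderOf_eq_one (x * y) ▸ one_mem _⟩
  obtain ⟨p, k⟩ := Nat.find_spec ex
  obtain ⟨i, e | e⟩ := Nat.even_or_odd' (Nat.find ex)
  · exact .inr ⟨i, fun j => Nat.find_min ex (show i < Nat.find ex by omega) ⟨by omega, j⟩, e ▸ k⟩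
  · exact .inl ⟨_, odd_two_mul_add_one i, e ▸ k⟩

theorem card_le_cls (h : ∀ u ∈ N, u ∉ Y → ∃ k ∈ K, u⁻¹ * (k * a * k⁻¹) ∈ Y) :
    ♯N ≤ ((𝐂₁ a).relIndex K + 1) * ♯Y := by
  rw [← Ab2.ncard_cls]
  calc ♯N = (N : Set G).ncard := rfl
    _ ≤ (insert 1 (Ab2.cls K a) * (Y : Set G)).ncard := Set.ncard_le_ncard fun u hu => by
        by_cases e : u ∈ Y
        · exact ⟨1, .inl rfl, u, e, one_mul u⟩
        · obtain ⟨k, hk, j⟩ := h u hu e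
          exact ⟨_, .inr ⟨k, hk, rfl⟩, _, im j, by simp only; group⟩
    _ ≤ _ := Set.natCard_mul_le.trans (Nat.mul_le_mul_right _ (Set.ncard_insert_le _ _))

theorem Ct.of_mem (h : Ct 𝒞 A H) (hx : x ∈ cj g A) (x1 : x ≠ 1) (xH : x ∈ H) : Ct 𝒞 (cj g A) H := by
  obtain ⟨a, ha, rfl⟩ := mem_cj_iff.1 hx
  exact h.cj' (h.fus ha (fun e => x1 (by simp [e])) xH)

namespace Big
variable (h : Big 𝒞 m q) (am : AM 𝒞 m)
include h am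

theorem lineY1 (s : Adj 𝒞 A B) (hy : y ∈ NN A B) (n : ∀ E ∈ 𝒞, y ∉ E) (r : Adj 𝒞 E A) (r' : Adj 𝒞 E B)
    (ne : E ⇂ B ≠ E ⇂ A) (yE : y ∈ 𝐍 E) (hx : x ∈ E) (c : x * y = y * x) : x ∈ 𝐍 A := by
  have H := h.toTIC
  by_contra xA
  obtain ⟨c, hc, k⟩ := h.cover inf_le_left (am r) ((h.ca E _ _ (am r').mb (am r).mb ne).ge hx) fun e => xA e.2
  rw [cj_res, cj_of_norm hc.2] at k
  have s' : Adj 𝒞 A (cj c B) := by simpa only [cj_of_mem hc.1] using s.cj H c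
  have r₁ : Adj 𝒞 E (cj c B) := by simpa only [cj_of_norm hc.2] using r'.cj H c
  rw [← cj_of_norm (s.norm_NN H (mem_sup_left hc.1)), cj_NN, cj_of_mem hc.1] at hy
  generalize cj c B = B' at *
  obtain ⟨a, ha, b, hb, rfl⟩ := (s'.mem_NN H).1 hy
  have bE : b ∈ 𝐍 E := by_contra fun nb => by
    have ne' : E ≠ cj b E := fun e => nb (cj_eq_self.1 e.symm)
    have e : cj b E = cj a⁻¹ E := by rw [← cj_inv_cj a (cj b E), cj_cj a, cj_of_norm yE]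
    have d := am (r.symm H)
    have d' := am (r₁.symm H)
    have e₁ := (h.adj_same h.tw h.m4 d (e ▸ d.cj'' H (le_norm_self _ (im ha.1))
      (h.cent_norm d (tic_abel H s.hP (im ha.1)))) ne').eq
    have e₂ := (h.adj_same h.tw h.m4 d' (d'.cj'' H (le_norm_self _ hb.1) (h.cent_norm d' (tic_abel H s'.hR hb.1)))
      ne').eq
    exact xA ((e₂.symm.trans e₁).le k).2
  have cb := r₁.comm H k ⟨hb.1, bE⟩
  refine xA (h.norm_of_comm s.hP ha.1 (fun e => n B' s'.hR (by simpa [e] using hb.1)) ?_)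
  rwa [← mul_assoc, mul_assoc a, ← cb, ← mul_assoc, mul_left_inj] at c

theorem lineY2 (s : Adj 𝒞 A B) (hy : y ∈ NN A B) (n : ∀ E ∈ 𝒞, y ∉ E) (hk : k ∈ HL 𝒞 A) (c : k * y = y * k)
    (hD : D ∈ Ln A B) : cj k D ∈ Ln A B := by
  have H := h.toTIC
  have τ : Tri 𝒞 := h.tri_am am
  have K := s.clq H
  have hE := (τ.mem_HL H (s.Ln_Lam H hD)).1 hk
  have yE : y ∈ 𝐍 (cj k D) := cj_of_comm c ▸ mem_norm_cj.2 (K.wn hD hy)
  have l : cj k (D ⊓ NN A B) ≤ cj k D ⊓ 𝐂₁ y := le_inf (cj_mono k inf_le_left) (by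
    rw [← cj_of_comm c, ← cj_cent1]; exact cj_mono k fun a ha => mem_cent1.2 (K.wcomm ha.2 hy))
  have cd : ♯(cj k (D ⊓ NN A B)) = m := by rw [card_cj, s.card_Ln H hD, (am s).card]
  generalize cj k D = E at *
  by_cases e : E = A
  · exact e ▸ left_Ln
  by_cases e' : E = B
  · rw [e']; exact s.right_Ln H
  have r := τ.adj H hE Lam_self e
  have r' := τ.adj H hE (.inr s) e'
  have : E ⇂ B = E ⇂ A := by_contra fun ne => ne ((eq_of_card_le (fun x hx => mem_inf.2 ⟨(l hx).1, h.lineY1 am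
    (s.symm H) (NN_symm A B ▸ hy) n r' r (Ne.symm ne) yE (l hx).1 (mem_cent1.1 (l hx).2)⟩)
      ((am r').card.trans cd.symm).le).symm.trans (eq_of_card_le (fun x hx => mem_inf.2 ⟨(l hx).1,
        h.lineY1 am s hy n r r' ne yE (l hx).1 (mem_cent1.1 (l hx).2)⟩) ((am r).card.trans cd.symm).le))
  have d := h.adj_same h.tw h.m4 (am r) (this ▸ am r') s.ne
  exact h.mem_Ln h.tw h.m4 d (am (r.symm H))

theorem lineY (s : Adj 𝒞 A B) (hy : y ∈ NN A B) (n : ∀ E ∈ 𝒞, y ∉ E) (hk : k ∈ HL 𝒞 A) (c : k * y = y * k) :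
    k ∈ 𝐍 (NN A B) := cj_eq_self.1 (by
  rw [cj_NN, s.NN_eq h.toTIC (h.lineY2 am s hy n hk c left_Ln) (h.lineY2 am s hy n hk c (s.right_Ln h.toTIC))
    (mt cj_inj.1 s.ne)])

theorem holt1 (ns : Ab2.NS (⊤ : Subgroup G)) (hA : A ∈ 𝒞) (ne : HL 𝒞 A ≠ ⊤) : ∃ B Y, Adj 𝒞 A B ∧ Y ≤ NN A B ∧
    Y ≠ ⊥ ∧ (∀ E ∈ 𝒞, ∀ y ∈ Y, y ∈ E → y = 1) ∧ ∀ a ∈ A ⇂ B, a ≠ 1 → ∀ u ∈ NN A B, u ∉ Y →
      ∃ k ∈ HL 𝒞 A ⊓ 𝐂 Y, u⁻¹ * (k * a * k⁻¹) ∈ Y := by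
  have τ : Tri 𝒞 := h.tri_am am
  have ct := τ.ct h.toTIC hA (h.nb' hA)
  generalize eH : HL 𝒞 A = H at *
  obtain ⟨V, C, s⟩ := h.exists_dl hA
  obtain ⟨B, s, a₀, ha₀, b₀, hb₀, y1, n⟩ := ct.not_se ns ne (h.adj s)
  have K := s.clq h.toTIC
  have NH : NN A B ≤ H := sup_le (inf_le_left.trans ((le_norm_self _).trans ct.n)) (inf_le_left.trans (ct.ad s))
  have y0 := mm (mem_NN_left ha₀) (mem_NN_right hb₀)
  obtain ⟨g₀, hg₀, g0⟩ := SetLike.not_le_iff_exists.1 n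
  obtain ⟨g₁, g1, mx⟩ := Set.exists_max_image {g | g ∉ H} (fun g => ♯(NN A B ⊓ cj g H)) (Set.toFinite _) ⟨g₀, g0⟩
  obtain ⟨c, hc, k⟩ := ct.ctrl (Y := NN A B ⊓ cj g₁ H) (pi_of_sq K.wsq).inf_left (inf_le_left.trans NH) inf_le_right
  have eg : cj g₁ H = cj c⁻¹ H := by
    rw [← inv_mul_cancel_left c g₁, ← cj_cj, cj_of_mem k]
  have gH : c⁻¹ ∉ H := fun e => g1 ((mul_mem_cancel_left (inv_mem_iff.1 e)).1 k)
  replace hc := im hc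
  rw [eg] at mx hc
  generalize c⁻¹ = g at *
  generalize eY : NN A B ⊓ cj g H = Y at *
  have YN : Y ≤ NN A B := eY ▸ inf_le_left
  have Yg : Y ≤ cj g H := eY ▸ inf_le_right
  have Y1 : Y ≠ ⊥ := one_lt_card.1 ((one_lt_card.2 (ne_bot_of_mem (H := NN A B ⊓ cj g₀ H) ⟨y0,
    cj_of_comm (mem_cent1.1 hg₀) ▸ conj_mem_cj.2 (NH y0)⟩ y1)).trans_le (mx g₀ g0))
  have nm : ∀ E ∈ 𝒞, ∀ y ∈ Y, y ∈ E → y = 1 := fun E hE y hy k => by_contra fun y1 => by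
    obtain ⟨i, rfl⟩ := h.tr hA hE
    exact gH (inv_mem_iff.1 ((ct.of_mem k y1 (NH (YN hy))).fus k y1 (by simpa using mem_cj.1 (Yg hy))))
  have mx' : ∀ j ∈ 𝐂 Y, ∀ u ∈ NN A B, u ∉ Y → j * u * j⁻¹ ∈ H → j ∈ H := fun j hj u hu uY e => by_contra fun jH =>
    uY ((eq_of_card_le (le_inf YN fun y hy => mem_cj_inv.2 (by
      rw [cj_of_comm (hj y hy).symm]; exact NH (YN hy))) (mx j⁻¹ (mt inv_mem_iff.1 jH))).ge ⟨hu, mem_cj_inv.2 e⟩)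
  obtain ⟨y, hy, y1⟩ := exists_mem_ne_one Y1
  have ln : ∀ j ∈ H, j ∈ 𝐂 Y → j ∈ 𝐍 (NN A B) := fun j hj hj' =>
    h.lineY am s (YN hy) (fun E hE k => y1 (nm E hE y hy k)) (eH ▸ hj) (hj' y hy).symm
  refine ⟨B, Y, s, YN, Y1, nm, fun a ha a1 u hu uY => ?_⟩
  have aN := mem_NN_left ha
  have uu := K.wsq u hu
  have dd := h.sq (h.cj g hA) (conj_mem_cj.2 ha.1)
  have cY : zpowers (u * (g * a * g⁻¹)) ≤ 𝐂 Y := zpowers_le.2 (mm (fun y hy => K.wcomm (YN hy) hu)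
    (cjm hc fun y hy => K.wcomm (YN hy) aN))
  have od : ∀ {j w}, j ∈ 𝐂 Y → u * w ∈ H → u * w = j * (g * a * g⁻¹) * j⁻¹ → j * g ∈ H ⊓ 𝐂 Y :=
    fun hj k e => ⟨ct.fus ha.1 a1 (by simpa only [e, mul_assoc, mul_inv_rev] using k), mm hj hc⟩
  rcases dih_mod u (g * a * g⁻¹) Y with ⟨i, o, hi⟩ | ⟨i, hi, hi'⟩ <;>
    obtain ⟨j, hj, ⟨ev, e⟩ | ⟨-, e⟩⟩ := dih_conj uu dd i
  · exact absurd o (Nat.not_odd_iff_even.2 ev)
  · exact ⟨_, od (cY hj) (NH (mm hu (YN hi))) e, by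
      rw [show j * g * a * (j * g)⁻¹ = j * (g * a * g⁻¹) * j⁻¹ by group, ← e, inv_mul_cancel_left]; exact hi⟩
  all_goals
    obtain ⟨e₁, e₂⟩ := dih_cent uu dd i
    have wH := mx' _ (cY (npow_mem_zpowers _ i)) u hu uY (by rw [cj_eq_br, e₁]; exact NH (mm (YN hi') hu))
    have wg : (u * (g * a * g⁻¹)) ^ i ∈ cj g H := mem_cj.2 (ct.fus ha.1 a1 (by
      have := mem_cj.1 (mm (Yg hi') (conj_mem_cj.2 (NH aN)))
      rw [← e₂, ← cj_eq_br] at this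
      simpa only [mul_assoc, mul_inv_rev, inv_inv, inv_mul_cancel_left, mul_inv_cancel_left, inv_mul_cancel,
        mul_one] using this))
    refine absurd (eY.le ⟨(mul_mem_cancel_left hu).1 ?_, wg⟩) hi
  · exact e ▸ conj_mem_of_norm (ln j (mx' j (cY hj) u hu uY (e ▸ mm (NH hu) wH)) (cY hj)) hu
  · have := od (cY hj) (mm (NH hu) wH) e
    rw [e]
    simpa only [mul_assoc, mul_inv_rev] using conj_mem_of_norm (ln _ this.1 this.2) aN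

theorem holt (ns : Ab2.NS (⊤ : Subgroup G)) (hA : A ∈ 𝒞) (ne : HL 𝒞 A ≠ ⊤) : m = 4 ∧ q = 2 := by
  have H := h.toTIC
  obtain ⟨B, Y, s, YN, Y1, nm, tr⟩ := h.holt1 am ns hA ne
  have d := am s
  have K := s.clq H
  have cN : ♯(NN A B) = m * m := by rw [s.card_NN H, d.card]
  have nY : ∀ {U}, U ≤ NN A B → Y ≤ 𝐍 U := fun l => norm_of_cent fun y hy u hu => K.wcomm (l hu) (YN hy)
  have cs : ∀ {U E}, U ≤ NN A B → E ∈ 𝒞 → U ≤ E → ♯(Y ⊔ U) = ♯Y * ♯U := fun l hE l' =>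
    card_sup_of_inf_bot (.inl (nY l)) (eq_bot_of_forall fun y hy => nm _ hE y hy.1 (l' hy.2))
  obtain ⟨y, hy, y1⟩ := exists_mem_ne_one Y1
  have ln : ∀ {k D}, k ∈ HL 𝒞 A ⊓ 𝐂 Y → D ∈ Ln A B → cj k D ∈ Ln A B := fun hk =>
    h.lineY2 am s (YN hy) (fun E hE k => y1 (nm E hE y hy k)) hk.1 (hk.2 y hy).symm
  have i1 : (𝐍 A).relIndex (HL 𝒞 A ⊓ 𝐂 Y) ≤ q + 1 :=
    h.ncard_Ln h.tw d ▸ relIndex_le_ncard fun k hk => ln hk left_Ln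
  have lc : ∀ {k}, k ∈ 𝐍 A ⊓ (HL 𝒞 A ⊓ 𝐂 Y) → ∃ x ∈ A, cj k B = cj x B := fun {k} hk =>
    h.Ln_cases h.tw d (ln hk.2 (s.right_Ln H)) fun e => s.ne (cj_inj.1 ((cj_of_norm hk.1).trans e))
  have fx : ∀ {k a b}, k ∈ 𝐂 Y → k ∈ 𝐍 A → k ∈ 𝐍 B → a ∈ A → b ∈ B → a * b ∈ Y → k ∈ 𝐂₁ a :=
    fun {k a b} hk kA kB ha hb e => mem_cent1.2 (mul_inv_eq_iff_eq_mul.1 (tic_comp H hA s.hR s.ne
      (conj_mem_of_norm kA ha) ha (conj_mem_of_norm kB hb) hb (by rw [conj_mul, cj_of_comm (hk _ e).symm])).1)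
  have q1 := h.one_q
  have m0 := h.m_pos
  obtain ⟨e₁, e₂⟩ : m = q * q ∧ ♯Y = m := by
    obtain ⟨a, ha, b, hb, rfl⟩ := (s.mem_NN H).1 (YN hy)
    have c1 := card_le_cls (tr a ha fun e => y1 (nm B s.hR _ hy (by simpa [e] using hb.1)))
    have i2 : (𝐂₁ a).relIndex (HL 𝒞 A ⊓ 𝐂 Y) ≤ q * (q + 1) := by
      refine (relIndex_le_of_le_left (H := 𝐍 B ⊓ 𝐍 A ⊓ (HL 𝒞 A ⊓ 𝐂 Y)) (fun k hk => fx hk.2.2 hk.1.2 hk.1.1 ha.1
        hb.1 hy) (relIndex_ne_zero' _ _)).trans ?_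
      rw [inf_relIndex_right, ← relIndex_inf_mul_relIndex]
      exact Nat.mul_le_mul (h.relIndex_A d ▸ relIndex_le_of fun k hk => lc hk) i1
    have c2 := card_le (sup_le YN le_sup_left : Y ⊔ A ⇂ B ≤ NN A B)
    rw [cs le_sup_left hA inf_le_left, d.card, cN] at c2
    obtain ⟨r, er⟩ := card_dvd_of_le YN
    obtain ⟨n, en⟩ := (pi_of_sq K.wsq).card_pow
    obtain ⟨i, -, rfl⟩ := (Nat.dvd_prime_pow Nat.prime_two).1 (en ▸ Dvd.intro_left _ er.symm)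
    obtain ⟨n', en'⟩ := (tic_pi H hA).card_pow
    obtain ⟨j, -, rfl⟩ := (Nat.dvd_prime_pow Nat.prime_two).1 (en' ▸ Dvd.intro_left _ (h.card hA).symm)
    have Y0 := card_pos' Y
    rw [cN] at er c1
    have qq := h.qq
    have c3 : m ≤ 2 ^ i := by nlinarith
    have c4 : 2 ^ i ≤ 2 ^ j * (2 ^ j + 1) + 1 := by nlinarith
    have c5 : 2 ^ i = 2 ^ j * 2 ^ j := by
      rw [← pow_add] at qq ⊢
      have := (Nat.pow_le_pow_iff_right one_lt_two).1 (qq.trans c3)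
      have : i < j + j + 1 := (Nat.pow_lt_pow_iff_right one_lt_two).1 (by rw [pow_succ, pow_add]; nlinarith)
      congr 1; omega
    have : m = 2 ^ j * 2 ^ j := by omega
    exact ⟨this, by nlinarith⟩
  have pr : ∀ {U E}, U ≤ NN A B → E ∈ 𝒞 → U ≤ E → ♯U = m → ∀ u ∈ NN A B, ∃ y ∈ Y, ∃ v ∈ U, y * v = u :=
    fun l hE l' c u hu => (mem_sup_norm (nY l)).1 ((eq_of_card_le (sup_le YN l) (by rw [cs l hE l', e₂, c, cN])).ge hu)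
  obtain ⟨U, ⟨C, r⟩, nU⟩ := h.two A hA (A ⇂ B)
  obtain ⟨a, ha, a1⟩ := exists_mem_ne_one (h.inf_ne' r.mb d.mb nU.symm)
  obtain ⟨y, hy, b, hb, e⟩ := pr le_sup_right s.hR inf_le_left (h.card0 d) a (mem_NN_left ha.2)
  obtain rfl := eq_mul_inv_of_mul_eq e
  replace hb := im hb
  generalize b⁻¹ = b at *
  have c1 := card_le_cls (tr a ha.2 a1)
  have i2 : (𝐂₁ a).relIndex (HL 𝒞 A ⊓ 𝐂 Y) ≤ q + 1 := by
    refine (relIndex_le_of_le_left (H := 𝐍 A ⊓ (HL 𝒞 A ⊓ 𝐂 Y)) (fun k hk => ?_)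
      (relIndex_ne_zero' _ _)).trans (by rwa [inf_relIndex_right])
    obtain ⟨x, hx, e⟩ := lc hk
    have kB : x⁻¹ * k ∈ 𝐍 B := cj_eq_self.1 (by rw [← cj_cj, e, cj_inv_cj])
    by_cases xB : x ∈ 𝐍 B
    · exact fx hk.2.2 hk.1 ((mul_mem_cancel_left (im xB)).1 kB) ha.2.1 hb.1 hy
    have kA := mm (im (le_norm_self _ hx)) hk.1
    have cp : ∀ {a b}, a ∈ A → b ∈ B ⇂ A → a * b ∈ Y → x⁻¹ * k * a * (x⁻¹ * k)⁻¹ = a * ⁅x⁻¹, b⁆ ∧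
        x⁻¹ * k * b * (x⁻¹ * k)⁻¹ = b := fun {a b} ha hb e =>
      tic_comp H hA s.hR s.ne (conj_mem_of_norm kA ha) (mm ha (br_left (im hx) hb.2)) (conj_mem_of_norm kB hb.1)
        hb.1 (by
        calc _ = x⁻¹ * (k * (a * b) * k⁻¹) * x := by group
          _ = _ := by rw [cj_of_comm (hk.2.2 _ e).symm, ← mul_assoc, ← h.comm hA ha (im hx), br_def]; group)
    obtain ⟨x', hx', n'⟩ := r.mb.exists_not d.mb nU.symm
    obtain ⟨b₂, hb₂, bU, e₃⟩ := h.exists_c (h.pn' r.mb d.mb nU.symm) d hx' n' ha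
    obtain ⟨y₂, hy₂, a₂, ha₂, e₄⟩ := pr le_sup_left hA inf_le_left d.card b₂ (mem_NN_right hb₂)
    have k1 : a * ⁅x⁻¹, b⁆ ∈ U := by
      rw [← (cp ha.2.1 hb hy).1, ← e₃, br_cj, (cp (im ha₂.1) hb₂ (by
        rw [← e₄, K.wcomm (YN hy₂) (mem_NN_left ha₂), inv_mul_cancel_left]; exact hy₂)).2]
      exact br_inv_mem (h.br2 r.mb d nU.symm hb₂ bU (conj_mem_of_norm kA (r.le hx'))).1
    have bU' := h.norm_of_br r.mb d nU.symm hb (im hx) (fun e => xB (inv_mem_iff.1 (mem_inf.1 e).2))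
      ((mul_mem_cancel_left (mem_inf.1 ha).1).1 k1)
    have b1 : b ≠ 1 := fun e => a1 (by simpa [e] using nm A hA _ hy (by simpa [e] using ha.2.1))
    obtain ⟨z, hz, rfl⟩ := (Bil.of_abel (tic_abel H hA) hb.2).mem.1 ((eq_of_card_le (cm_le.2 fun x hx =>
      h.br2 r.mb d nU.symm hb bU' hx) (by
        rw [h.card_cm d hb b1]
        exact (Nat.eq_of_mul_eq_mul_right (by omega) ((h.card2 r.mb d.mb nU.symm).trans e₁)).le)).ge ha)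
    rw [← cj_eq_br] at hy
    exact absurd (nm _ (h.cj z s.hR) _ hy (conj_mem_cj.2 hb.1)) (Ab2.conj_ne_one b1 z)
  rw [cN, e₂] at c1
  have : m ≤ q + 1 + 1 := by nlinarith
  obtain rfl : q = 2 := by nlinarith
  exact ⟨e₁, rfl⟩

end Big

theorem Cs.big (h : Cs 𝒞 m q) (lt : q < m) : Big 𝒞 m q := ⟨h.toSt, lt, h.two⟩

theorem Cs.big_am (h : Cs 𝒞 m q) (lt : q < m) (am : AM 𝒞 m) : IsL G q ∨ (m = 4 ∧ q = 2) := by
  have β := h.big lt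
  obtain ⟨A, -, hA, -⟩ := h.ex
  by_cases e : HL 𝒞 A = ⊤
  exacts [.inl (h.onan β.m4 β.ca am (β.tri_am am) hA e), .inr (β.holt am h.ns hA e)]

end CF.Geom.Tm
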