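-- copy of `Geom.Tm17` avoiding a name clash (`Comp.syl_inf`) with `Sig.S4D`
import Cfsg.Agent.TmX.Tm16
import Cfsg.Agent.S3287
import Cfsg.Agent.S3035
import Cfsg.Agent.Sig.SftH
import Cfsg.Agent.Fgs2.AutP

/-! Four-groups: identification. -/

namespace CF.Geom.Tm
open Subgroup CF.BG CF.Xs
open scoped commutatorElement Pointwise
set_option linter.unusedSectionVars false

universe u
variable {G : Type u} [Group G] [Finite G]
variable {𝒞 Φ : Set (Subgroup G)} {W A B C D E F P R V U T K L H S Y N V' B' : Subgroup G}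
  {a b c d e f g k t u v w x y z b' : G} {m q : ℕ}

/-- alternating groups -/
def IsA (G : Type*) [Group G] (n : ℕ) : Prop := Nonempty (G ≃* alternatingGroup (Fin n))

theorem sol_cent (ab : Abel A) (s : Syl 2 A (𝐂 A)) : Sol (𝐂 A) :=
  ab.sol.of_qt (cent_le_norm _) (Ab2.od_sol ((piGrp_qt_iff (cent_le_norm _)).2 s.idx))

theorem syl_cent (hS : Syl 2 S ⊤) (l : S ≤ 𝐍 A) : Syl 2 (S ⊓ 𝐂 A) (𝐂 A) :=
  (hS.of_le l le_top).inf_normal ⟨cent_le_norm _, norm_cent le_rfl⟩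

theorem idx_dvd (h : TIC 𝒞) (hA : A ∈ 𝒞) {r : ℕ} (c : ♯A = 2 ^ r) (n : K ≤ 𝐍 A) :
    (𝐂 A).relIndex K ∣ ∏ i ∈ Finset.range r, (2 ^ r - 2 ^ i) := by
  have := abel_iff.1 (tic_abel h hA)
  have := Fact.mk Nat.prime_two
  have d := relIndex_cent_dvd_card_aut n
  rwa [CF.Fgs2.card_mulAut_of_pow_eq_one (p := 2) (r := r)
    (fun x => Subtype.ext (by simpa [pow_two] using h.sq hA x.2)) c] at d

theorem sol_of_idx (s : Sol (𝐂 A)) (n : K ≤ 𝐍 A) {i j : ℕ} (d : (𝐂 A).relIndex K ∣ 2 ^ i * 3 ^ j) : Sol K :=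
  s.of_qt (norm_cent n) (Sig.sol_of_pair Nat.prime_two Nat.prime_three ((piGrp_qt_iff (norm_cent n)).2
    fun p hp e => ((Nat.Prime.dvd_mul hp).1 (e.trans d)).imp
      (fun e => (Nat.prime_dvd_prime_iff_eq hp Nat.prime_two).1 (hp.dvd_of_dvd_pow e))
      fun e => (Nat.prime_dvd_prime_iff_eq hp Nat.prime_three).1 (hp.dvd_of_dvd_pow e)))

theorem not_perm (ns : Ab2.NS (⊤ : Subgroup G)) {n : ℕ} (e : G ≃* Equiv.Perm (Fin (n + 2))) : False :=
  ns.index_ne ((alternatingGroup (Fin (n + 2))).comap e.toMonoidHom) (by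
    rw [index_comap_of_surjective _ e.surjective, alternatingGroup.index_eq_two])

theorem isL_sl {n : ℕ} (n3 : 3 ≤ n) (e : G ≃* Matrix.SpecialLinearGroup (Fin n) (ZMod 2)) : IsL G 2 := by
  have h5 : center (Matrix.SpecialLinearGroup (Fin n) (ZMod 2)) = ⊥ := by
    have : NeZero n := ⟨by omega⟩
    rw [← card_eq_one, CF.Classical.card_center_SL]; simp
  exact ⟨ZMod 2, inferInstance, inferInstance, n, n3, ZMod.card 2,
    ⟨e.trans ((QuotientGroup.quotientMulEquivOfEq h5).trans QuotientGroup.quotientBot).symm⟩⟩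

theorem Cs.four (h : Cs 𝒞 2 2) : IsL G 2 ∨ IsA G 6 ∨ (IsA G 7 ∧ ∀ A ∈ 𝒞, ¬ PiGrp {2} (𝐂 A)) := by
  have H := h.toTIC
  have := h.ns.simple_top
  have := Fact.mk Nat.prime_two
  have main : ∀ A ∈ 𝒞, ∃ z, orderOf z = 2 ∧ ∃ S : Sylow 2 G, Nonempty (S ≃* DihedralGroup 4) ∧ 𝐂₁ z < 𝐍 A ∧
      Sol (𝐍 A) ∧ (PiGrp {2} (𝐂 A) → 𝐂₁ z = S) := fun A hA => by
    obtain ⟨V, B, s⟩ := h.exists_dl hA
    obtain ⟨S, hS, l⟩ := exists_syl_le le_top
      ((tic_pi H s.hA).sup (tic_pi H s.hD).inf_left (.inr inf_le_right) : PiGrp {2} (A ⊔ B ⇂ A))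
    have eS := h.syl_D s hS l
    have SA := tic_norm H s.hA hS.pi (le_sup_left.trans l)
    obtain ⟨b, hb, b1⟩ := exists_mem_ne_one (h.nb (h.symm s))
    obtain ⟨z, hz, z1⟩ := exists_mem_ne_one (h.nb s)
    obtain ⟨x, hx, hx'⟩ := h.exists_not s
    have o2 : ∀ {E t}, E ∈ 𝒞 → t ∈ E → t ≠ 1 → orderOf t = 2 := fun hE ht t1 =>
      orderOf_eq_prime (by rw [pow_two, H.sq hE ht]) t1
    have zV : ∀ {y}, y ∈ V → y = 1 ∨ y = z := fun hy => or_iff_not_imp_left.2 fun y1 => two_eq s.card hy hz y1 z1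
    have e1 : x * b * (x * b) = z := (zV (h.D_sq s (mul_mem_sup hx hb))).resolve_left fun e => hx' (s.fix H hb.1 b1 hx
      (by rw [← inv_eq_of_mul_eq_one_right e, mul_inv_rev, H.inv hA hx, H.inv s.hD hb.1]))
    have o4 : orderOf (x * b) = 4 := orderOf_eq_prime_pow (p := 2) (n := 1) (by rwa [pow_one, pow_two, e1])
      (by rw [show 2 ^ (1 + 1) = 2 * 2 by rfl, pow_mul, pow_two (x * b), e1, pow_two, H.sq hA (s.le hz)])
    have eD : closure {x, b} = S := by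
      have m1 : x ∈ closure {x, b} := subset_closure (by simp)
      have m2 : b ∈ closure {x, b} := subset_closure (by simp)
      have m3 : V ≤ closure {x, b} := fun y hy => by
        rcases zV hy with rfl | rfl
        exacts [one_mem _, e1 ▸ mm (mm m1 m2) (mm m1 m2)]
      refine le_antisymm ((closure_le _).2 (Set.pair_subset (l (mem_sup_left hx)) (l (mem_sup_right hb))))
        (eS ▸ sup_le (fun y hy => by_contra fun n => ?_) fun y hy => ?_)
      · exact n ((mul_mem_cancel_left m1).1 (m3 (half s.le (h.half' s) hx hy hx' fun e => n (m3 e))))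
      · by_cases y1 : y = 1
        exacts [y1 ▸ one_mem _, two_eq (h.card0 s) hy hb y1 b1 ▸ m2]
    obtain ⟨e⟩ := CF.Invol.nonempty_closure_pair_equiv_dihedral (o2 hA hx fun e => hx' (e ▸ one_mem _))
      (o2 s.hD hb.1 b1)
    rw [o4, eD] at e
    obtain ⟨P, rfl⟩ := hS.exists_sylow_top
    have zA : 𝐂₁ z ≤ 𝐍 A := fun g hg => H.norm_of_comm hA (s.le hz) z1 (mem_cent1.1 hg)
    have zC : ∀ {g}, g ∈ 𝐂₁ z → g ∈ 𝐂 V := fun hg y hy => by
      rcases zV hy with rfl | rfl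
      exacts [by simp, (mem_cent1.1 hg).symm]
    have eC : (P : Subgroup G) ⊓ 𝐂 A = A := le_antisymm (fun y hy => h.D_cent s (eS ▸ hy.1) hy.2)
      (le_inf (le_sup_left.trans l) (tic_abel H hA))
    refine ⟨z, o2 hA (s.le hz) z1, P, ⟨e⟩, lt_of_le_of_ne zA fun e => h.nb s (eq_bot_mono (h.irr A hA)
      (le_Is s.le (fun e => hx' (e ▸ hx)) fun g hg => cent_le_norm _ (zC (e ▸ hg)))),
      sol_of_idx (sol_cent (tic_abel H hA) (by simpa only [eC] using syl_cent hS SA)) le_rfl (i := 1) (j := 1)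
        (by simpa [Finset.prod_range_succ] using idx_dvd H hA (r := 2) (h.card hA) le_rfl), fun p => ?_⟩
    refine (hS.eq_of_le (fun g hg => mem_cent1.2 (h.two_norm s hS.pi l hg z hz).symm) le_top
      ((p.sup (tic_pi H s.hD).inf_left (.inr (norm_cent inf_le_right)) : PiGrp {2} (𝐂 A ⊔ B ⇂ A)).le
        fun g hg => ?_)).symm
    obtain ⟨d, hd, k⟩ := h.surj s hx hx' (a := ⁅g, x⁆) (half s.le (h.half' s) (conj_mem_of_norm (zA hg) hx) (im hx)
      (fun e => hx' ((mem_norm.1 (cent_le_norm _ (zC hg)) x).2 e)) fun e => hx' (by simpa using im e))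
    exact (mul_mem_cancel_left (im (mem_sup_right hd))).1 (mem_sup_left (comm_half s.le (h.half' s) hx hx'
      (mm (im fun a ha => s.cent H hd ha) (zC hg)) (comm_of_br_eq k).symm))
  by_cases c : ∃ A ∈ 𝒞, PiGrp {2} (𝐂 A)
  · obtain ⟨A, hA, p⟩ := c
    obtain ⟨z, o, S, e, lt, -, k⟩ := main A hA
    rcases Cfsg.Agent.S3035.result z o (k p ▸ e) with k | ⟨⟨k⟩⟩ | ⟨⟨k⟩⟩ | ⟨⟨k⟩⟩ | k
    · rw [Cfsg.oddCore, pPrimeCore_eq Nat.prime_two, h.ns.O, sup_bot_eq] at k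
      exact absurd (k ▸ lt) not_top_lt
    exacts [(not_perm h.ns k).elim, (not_perm h.ns k).elim, .inl (isL_sl le_rfl k), .inr (.inl k)]
  obtain ⟨A, -, hA, -⟩ := h.ex
  obtain ⟨z, o, S, ⟨e⟩, lt, s, -⟩ := main A hA
  rcases Cfsg.Agent.S3287.result S 4 e z o _ lt (Sig.fstar_eq_fitting_iff.2 (Sig.layer_eq_bot_of_solvable s)) with
    ⟨⟨k⟩⟩ | k | ⟨F, _, _, c, k⟩ | ⟨F, _, _, c, ⟨k⟩⟩
  · have := card_subgroup_dvd_card (S : Subgroup G)
    rw [Nat.card_congr e.toEquiv, DihedralGroup.nat_card, Nat.card_congr k.toEquiv, nat_card_alternatingGroup] at this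
    simp [Nat.factorial] at this
  · exact .inr (.inr ⟨k, fun A hA p => c ⟨A, hA, p⟩⟩)
  · exact .inl ⟨F, _, _, 3, le_rfl, c, k⟩
  · exact .inr (.inl ((CF.Classical.PSL2_nine_equiv (by rwa [Nat.card_eq_fintype_card])).map k.trans))

end CF.Geom.Tm
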