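-- copy of `Geom.Tm18` avoiding a name clash (`Comp.syl_inf`) with `Sig.S4D`
import Cfsg.Agent.TmX.Tm17

/-! Split Sylow subgroups, and the structure of a Sylow subgroup when `q = 2`. -/

namespace CF.Geom.Tm
open Subgroup CF.BG CF.Xs
open scoped commutatorElement Pointwise
set_option linter.unusedSectionVars false

universe u
variable {G : Type u} [Group G] [Finite G]
variable {𝒞 Φ : Set (Subgroup G)} {W A B C D E F P R V U T K L H S Y N V' B' U' : Subgroup G}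
  {a b c d e f g k t u v w x y z b' : G} {m q : ℕ}

/-- the holomorph of an elementary abelian group -/
abbrev Hol (n : ℕ) : Type :=
  Multiplicative (Fin n → ZMod 2) ⋊[MonoidHom.id _] MulAut (Multiplicative (Fin n → ZMod 2))

/-- a split extension with faithful action -/
structure Spl (A T : Subgroup G) (n k : ℕ) : Prop where
  sq : ∀ a ∈ A, a * a = 1
  cA : ♯A = 2 ^ n
  nm : T ≤ 𝐍 A
  fa : T ⊓ 𝐂 A = ⊥
  cT : ♯T = 2 ^ k

theorem Spl.inf {n k : ℕ} (s : Spl A T n k) : A ⊓ T = ⊥ :=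
  eq_bot_of_forall fun u hu => eq_one_of_mem_bot s.fa ⟨hu.2, fun _ e => comm_of_sq s.sq e hu.1⟩

theorem Spl.card {n k : ℕ} (s : Spl A T n k) : ♯(A ⊔ T) = 2 ^ (n + k) := by
  rw [card_sup_of_inf_bot (.inr s.nm) s.inf, s.cA, s.cT, pow_add]

theorem Spl.syl {n k o : ℕ} (s : Spl A T n k) (e : ∏ i ∈ Finset.range n, (2 ^ n - 2 ^ i) = 2 ^ k * o) (ho : Odd o)
    (P : Sylow 2 (Hol n)) : Nonempty (↥(A ⊔ T) ≃* P) := by
  have := Fact.mk Nat.prime_two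
  have := abel_iff.1 (fun a ha b hb => comm_of_sq s.sq hb ha : Abel A)
  have sq : ∀ x : A, x ^ 2 = 1 := fun x => Subtype.ext (by simpa [pow_two] using s.sq x x.2)
  obtain ⟨ε⟩ := CF.Fgs2.nonempty_equiv_pi_zmod sq s.cA
  let ψ : T →* MulAut A := A.normalizerMonoidHom.comp (inclusion s.nm)
  have hψ : Function.Injective ψ := (injective_iff_map_eq_one ψ).2 fun t e => Subtype.ext (eq_one_of_mem_bot s.fa
    ⟨t.2, fun a ha => by
      have : t * a * (t : G)⁻¹ = a := congrArg Subtype.val (DFunLike.congr_fun e (⟨a, ha⟩ : A))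
      exact (mul_inv_eq_iff_eq_mul.1 this).symm⟩)
  let f := SemidirectProduct.monoidHomSubgroup s.nm
  have hf : ∀ x, f x = x.left * x.right := fun x => rfl
  have fi : Function.Injective f := (injective_iff_map_eq_one f).2 fun x e => by
    have k : (x.right : G) = 1 := eq_one_of_mem_bot s.inf
      ⟨(A.mul_mem_cancel_left x.left.2).1 (by rw [← hf, e]; exact A.one_mem), x.right.2⟩
    rw [hf, k, mul_one] at e
    exact SemidirectProduct.ext (Subtype.ext e) (Subtype.ext k)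
  have fr : f.range = A ⊔ T := by
    refine le_antisymm ?_ (sup_le (fun u hu => ⟨⟨⟨u, hu⟩, 1⟩, by simp [hf]⟩) fun u hu => ⟨⟨1, ⟨u, hu⟩⟩, by simp [hf]⟩)
    rintro _ ⟨x, rfl⟩
    exact hf x ▸ mul_mem_sup x.left.2 x.right.2
  let g : A ⋊[ψ] T →* Hol n := SemidirectProduct.map ε.toMonoidHom ((MulAut.congr ε).toMonoidHom.comp ψ)
    fun t => MonoidHom.ext fun a => by simp
  have gi : Function.Injective g := fun x y e => SemidirectProduct.ext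
    (ε.injective (congrArg SemidirectProduct.left e)) (hψ ((MulAut.congr ε).injective (congrArg SemidirectProduct.right e)))
  let j : ↥(A ⊔ T) ≃* g.range :=
    ((MonoidHom.ofInjective fi).trans (MulEquiv.subgroupCongr fr)).symm.trans (MonoidHom.ofInjective gi)
  have c : ♯g.range = 2 ^ (n + k) := (Nat.card_congr j.toEquiv).symm.trans s.card
  have : Finite (Hol n) := Finite.of_equiv _ SemidirectProduct.equivProd.symm
  obtain ⟨Q, hQ⟩ := (syl_mk Nat.prime_two le_top (piGrp_of_card Nat.prime_two c) (by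
    have k := card_mul_relIndex (le_top : g.range ≤ ⊤)
    rw [c, card_top, SemidirectProduct.card, ← Nat.card_congr ε.toEquiv, s.cA,
      ← Nat.card_congr (MulAut.congr ε).toEquiv, CF.Fgs2.card_mulAut_of_pow_eq_one sq s.cA, e, pow_add,
      mul_assoc] at k
    rw [Nat.eq_of_mul_eq_mul_left (by positivity) (Nat.eq_of_mul_eq_mul_left (by positivity) k)]
    exact ho.not_two_dvd_nat)).exists_sylow_top
  exact ⟨(j.trans (MulEquiv.subgroupCongr hQ.symm)).trans (Sylow.equiv Q P)⟩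

theorem Spl.emb {X : Type*} [Group X] [Finite X] {A' T' : Subgroup X} {n k o : ℕ} (s : Spl A T n k)
    (s' : Spl A' T' n k) (t : A' ⊔ T' = ⊤) (e : ∏ i ∈ Finset.range n, (2 ^ n - 2 ^ i) = 2 ^ k * o) (ho : Odd o) :
    ∃ φ : X →* G, Function.Injective φ ∧ φ.range = A ⊔ T := by
  have := Fact.mk Nat.prime_two
  obtain ⟨i⟩ := s.syl e ho default
  obtain ⟨j⟩ := s'.syl e ho default
  let g := ((topEquiv.symm.trans (MulEquiv.subgroupCongr t.symm)).trans j).trans i.symm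
  exact ⟨(A ⊔ T).subtype.comp g.toMonoidHom, Subtype.val_injective.comp g.injective, by
    rw [MonoidHom.range_comp, MonoidHom.range_eq_top.2 g.surjective, ← MonoidHom.range_eq_map, range_subtype]⟩

/-- a subgroup given by the list of its elements -/
def ofL {X : Type*} [Group X] (l : List X) (h : 1 ∈ l ∧ ∀ a ∈ l, a⁻¹ ∈ l ∧ ∀ b ∈ l, a * b ∈ l) : Subgroup X where
  carrier := {a | a ∈ l}
  one_mem' := h.1
  mul_mem' ha hb := (h.2 _ ha).2 _ hb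
  inv_mem' ha := (h.2 _ ha).1

theorem card_ofL {X : Type*} [Group X] {l : List X} (h) (n : l.Nodup) : ♯(ofL l h) = l.length := by
  classical
  rw [← List.toFinset_card_of_nodup n, ← Fintype.card_coe, ← Nat.card_eq_fintype_card]
  exact Nat.card_congr (Equiv.subtypeEquivRight fun c => List.mem_toFinset.symm)

theorem Spl.ofL {X : Type*} [Group X] [Finite X] {l l' : List X} {h h'} {n k : ℕ} (h1 : l.Nodup ∧ l'.Nodup ∧ l.length = 2 ^ n ∧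
    l'.length = 2 ^ k ∧ (∀ a ∈ l, a * a = 1) ∧ ∀ t ∈ l', (∀ a ∈ l, t * a * t⁻¹ ∈ l) ∧ ((∀ a ∈ l, a * t = t * a) → t = 1)) :
    Spl (ofL l h) (ofL l' h') n k :=
  ⟨h1.2.2.2.2.1, (card_ofL h h1.1).trans h1.2.2.1, fun t ht => mem_norm_of_cj_le (by
    rintro _ ⟨a, ha, rfl⟩; exact (h1.2.2.2.2.2 t ht).1 a ha),
    eq_bot_of_forall fun t ht => (h1.2.2.2.2.2 t ht.1).2 ht.2, (card_ofL h' h1.2.1).trans h1.2.2.2.1⟩

theorem Spl.top {n k : ℕ} (s : Spl A T n k) (c : Nat.card G = 2 ^ (n + k)) : A ⊔ T = ⊤ :=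
  eq_of_card_eq le_top (by rw [s.card, card_top, c])

theorem Spl.isSyl {n k o : ℕ} (s : Spl A T n k) (h : TIC 𝒞) (hA : A ∈ 𝒞) (c : ∀ S, Syl 2 S ⊤ → A ≤ S → S ⊓ 𝐂 A ≤ A)
    (e : ∏ i ∈ Finset.range n, (2 ^ n - 2 ^ i) = 2 ^ k * o) (ho : Odd o) : Syl 2 (A ⊔ T) ⊤ := by
  have p : PiGrp {2} (A ⊔ T) := piGrp_of_card Nat.prime_two s.card
  obtain ⟨S, hS, l⟩ := exists_syl_le le_top p
  have lA := le_sup_left.trans l
  have d := idx_dvd h hA s.cA (tic_norm h hA hS.pi lA)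
  obtain ⟨j, hj⟩ := PiNat.exists_pow (hS.pi.relIndex (𝐂 A)) (relIndex_ne_zero' _ _)
  rw [hj, e] at d
  have d := (Nat.Coprime.pow_left j (Nat.coprime_two_left.2 ho)).dvd_of_dvd_mul_right d
  refine (eq_of_card_le l ?_).symm ▸ hS
  rw [s.card, ← card_mul_relIndex (inf_le_left : S ⊓ 𝐂 A ≤ S), inf_relIndex_left, hj,
    le_antisymm (c S hS lA) (le_inf lA (tic_abel h hA)), s.cA, pow_add]
  exact Nat.mul_le_mul_left _ (Nat.le_of_dvd (by positivity) d)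

theorem cls_card (hz : z ∈ A) (z1 : z ≠ 1) (tr : ∀ y ∈ A, y ≠ 1 → ∃ g ∈ 𝐍 A, g * z * g⁻¹ = y) :
    (𝐂₁ z).relIndex (𝐍 A) = ♯A - 1 := by
  rw [← Ab2.ncard_cls, ← ncard_diff_one]
  congr 1
  ext y
  exact ⟨fun ⟨g, hg, e⟩ => e ▸ ⟨conj_mem_of_norm hg hz, Ab2.conj_ne_one z1 g⟩, fun e => tr y e.1 e.2⟩

theorem St.coset_tr (h : St 𝒞 m q) (s : Dl 𝒞 m A V B) (hx : x ∈ A) (hx' : x ∉ V) (hy : y * x⁻¹ ∈ V) :
    ∃ g ∈ B ⇂ A, g * x * g⁻¹ = y :=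
  let ⟨d, hd, k⟩ := h.surj s hx hx' hy; ⟨d, hd, by rw [cj_eq_br, k, inv_mul_cancel_right]⟩

theorem Cs.dir3 (h : Cs 𝒞 m q) (lt : q < m) (s : Mb 𝒞 m A V) (s' : Mb 𝒞 m A U) (ne : V ≠ U) :
    ∃ U', Mb 𝒞 m A U' ∧ ¬ V ⊓ U ≤ U' := by
  have β := h.big lt
  have H := h.toTIC
  by_contra n
  have n : ∀ U', Mb 𝒞 m A U' → V ⊓ U ≤ U' := fun U' k => by_contra fun e => n ⟨U', k, e⟩
  obtain ⟨B, k⟩ := id s
  obtain ⟨x, hx, hx'⟩ := h.exists_not k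
  refine β.inf_ne' s s' ne (eq_bot_mono (h.irr A k.hA) (le_Is (inf_le_left.trans s.le) (fun e => hx' (e.ge hx).1)
    fun g hg => cj_eq_self.1 (eq_of_card_eq (cj_inf g V U ▸ le_inf (n _ (s.cj H hg)) (n _ (s'.cj H hg)))
      (card_cj _ _).symm).symm))

theorem Cs.cent_A (h : Cs 𝒞 m q) (lt : q < m) (hA : A ∈ 𝒞) (hS : Syl 2 S ⊤) (l : A ≤ S) : S ⊓ 𝐂 A ≤ A := by
  have β := h.big lt
  obtain ⟨V, B, s⟩ := h.exists_dl hA
  have c : Ct 𝒞 A (𝐍 (𝐂 (A ⊔ B))) :=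
    ⟨h.toTIC, hA, h.nb' hA, β.cent_N s, fun ad => norm_of_cent' (β.cent_adj s ad)⟩
  intro g hg
  obtain ⟨x, hx, k⟩ := h.cent_decomp β.tw β.m4 s hg.2
  exact inv_mul_eq_one.1 (eq_one_of_mem_bot (c.cent_odd h.ns (h.adj s) (cent_symm le_rfl) hS l)
    ⟨mm (im (l hx)) hg.1, k⟩) ▸ hx

theorem Big.spl1 (h : Big 𝒞 m q) (s : Dl 𝒞 m A V B) (s' : Dl 𝒞 m A U C) (ne : V ≠ U) :
    C ⇂ A ⊓ 𝐍 V ≤ 𝐍 (B ⇂ A) ∧ ♯(B ⇂ A ⊔ C ⇂ A ⊓ 𝐍 V) = m * ♯(V ⊓ U) ∧ (B ⇂ A ⊔ C ⇂ A ⊓ 𝐍 V) ⊓ 𝐂 A = ⊥ ∧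
      B ⇂ A ⊔ C ⇂ A ⊓ 𝐍 V ≤ 𝐍 A ⊓ 𝐂 (V ⊓ U) := by
  have H := h.toTIC
  have n : C ⇂ A ⊓ 𝐍 V ≤ 𝐍 (B ⇂ A) := fun c hc => mem_norm_res (h.theta s s' ne hc.1 hc.2) hc.1.2
  have BC : B ≠ C := fun e => ne (s.eq.symm.trans (e ▸ s'.eq))
  refine ⟨n, by rw [card_sup_of_inf_bot (.inr n) (eq_bot_of_forall fun u hu => H.eq_one s.hD s'.hD BC hu.1.1 hu.2.1.1),
    h.card0 s, h.card_C2 s.mb s' ne], eq_bot_of_forall fun u hu => ?_, sup_le (fun b hb => ⟨hb.2, fun a ha =>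
      s.cent H hb ha.1⟩) fun c hc => ⟨hc.1.2, fun a ha => s'.cent H hc.1 ha.2⟩⟩
  obtain ⟨b, hb, c, hc, rfl⟩ := (mem_sup_norm' n).1 hu.1
  obtain rfl : b = 1 := by_contra fun b1 => ne (s'.mb.eq s.mb fun x hx => s.fix H hb.1 b1 (s'.le hx) (by
    have := hu.2 x (s'.le hx)
    rwa [mul_assoc, ← s'.cent H hc.1 hx, ← mul_assoc, ← mul_assoc, mul_left_inj] at this)).symm
  exact H.cent_one s.hA s'.hD s'.ne (mm (one_mem _) hc.1.1) hu.2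

theorem Cs.spl4 (h : Cs 𝒞 4 2) (hA : A ∈ 𝒞) : ∃ T, Spl A T 3 3 := by
  have β := h.big (by decide)
  obtain ⟨V, B, s⟩ := h.exists_dl hA
  obtain ⟨U, ⟨C, s'⟩, ne⟩ := h.two A hA V
  obtain ⟨-, h1, h2, h3⟩ := β.spl1 s s' ne
  have := β.card2 s.mb s'.mb ne
  exact ⟨_, fun _ => h.sq hA, h.card hA, h3.trans inf_le_left, h2, by omega⟩

theorem Cs.spl8 (h : Cs 𝒞 8 2) (hA : A ∈ 𝒞) : ∃ T, Spl A T 4 6 := by
  have β := h.big (by decide)
  have H := h.toTIC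
  obtain ⟨V, B, s⟩ := h.exists_dl hA
  obtain ⟨U, ⟨C, s'⟩, ne⟩ := h.two A hA V
  obtain ⟨U', ⟨E, r⟩, n⟩ := h.dir3 (by decide) s.mb s'.mb ne
  have n1 : V ≠ U' := fun e => n (e ▸ inf_le_left)
  have n2 : U ≠ U' := fun e => n (e ▸ inf_le_right)
  obtain ⟨h0, h1, h2, h3⟩ := β.spl1 s s' ne
  have c0 := β.card2 s.mb s'.mb ne
  obtain ⟨e, he, e1⟩ := exists_mem_ne_one (H := (E ⇂ A ⊓ 𝐍 V) ⊓ (E ⇂ A ⊓ 𝐍 U)) fun k => by
    have k0 : E ⇂ A ⊓ 𝐍 V ≤ 𝐂 (E ⇂ A ⊓ 𝐍 U) := fun a ha b hb => H.comm r.hD hb.1.1 ha.1.1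
    have k1 := card_sup_of_inf_bot (.inl (norm_of_cent k0)) k
    have k2 := card_le (sup_le inf_le_left inf_le_left : (E ⇂ A ⊓ 𝐍 V) ⊔ (E ⇂ A ⊓ 𝐍 U) ≤ E ⇂ A)
    have := β.card2 s.mb r.mb n1
    have := β.card2 s'.mb r.mb n2
    rw [k1, β.card_C2 s.mb r n1, β.card_C2 s'.mb r n2, h.card0 r] at k2
    nlinarith
  have ee := H.sq r.hD he.1.1.1
  have eN : zpowers e ≤ 𝐍 (B ⇂ A ⊔ C ⇂ A ⊓ 𝐍 V) := zpowers_le.2 (mem_norm_sup (mem_norm_res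
    (β.theta s r n1 he.1.1 he.1.2) he.1.1.2) (mem_norm_inf (mem_norm_res (β.theta s' r n2 he.2.1 he.2.2) he.1.1.2)
      (le_normalizer he.1.2)))
  have o : orderOf e = 2 := orderOf_eq_prime (by rw [pow_two, ee]) e1
  have nc : e ∉ 𝐂 (V ⊓ U) := fun k => n fun x hx => r.fix H he.1.1.1 e1 (s.le hx.1) (k x hx)
  have cs : ∀ {u}, u ∈ zpowers e → u = 1 ∨ u = e := fun hu => or_iff_not_imp_left.2 fun u1 =>
    two_eq (by rw [Nat.card_zpowers, o]) hu (mem_zpowers e) u1 e1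
  refine ⟨(B ⇂ A ⊔ C ⇂ A ⊓ 𝐍 V) ⊔ zpowers e, fun _ => h.sq hA, h.card hA,
    sup_le (h3.trans inf_le_left) (zpowers_le.2 he.1.1.2), eq_bot_of_forall fun u hu => ?_, ?_⟩
  · obtain ⟨a, ha, b, hb, rfl⟩ := (mem_sup_norm' eN).1 hu.1
    rcases cs hb with rfl | rfl
    · exact eq_one_of_mem_bot h2 ⟨mm ha (one_mem _), hu.2⟩
    · exact (nc ((mul_mem_cancel_left (mem_inf.1 (h3 ha)).2).1 (cent_anti (inf_le_left.trans s.le) hu.2))).elim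
  · rw [card_sup_of_inf_bot (.inr eN) (eq_bot_of_forall fun u hu => (cs hu.2).resolve_right fun k =>
      nc (k ▸ (h3 hu.1).2)), h1, Nat.card_zpowers, o]
    omega

end CF.Geom.Tm
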