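-- copy of `Geom.Tm23` avoiding a name clash (`Comp.syl_inf`) with `Sig.S4D`
import Cfsg.Agent.TmX.Tm19
import Cfsg.Agent.TmX.Tm22
import Cfsg.Agent.Ab2.Hy

/-! Timmesfeld's theorem on weakly closed TI-subgroups: the assembly and the reductions. -/

namespace CF.Geom.Tm
open Subgroup CF.BG CF.Xs Function
open scoped commutatorElement Pointwise
set_option linter.unusedSectionVars false

universe u
variable {G : Type u} [Group G] [Finite G]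
variable {𝒞 : Set (Subgroup G)} {W A B D P R V U K : Subgroup G} {a d g x : G} {m q : ℕ}

theorem Cs.main (h : Cs 𝒞 m q) : IsL G q ∨ (m = 2 ∧ q = 2 ∧ (IsA G 6 ∨ (IsA G 7 ∧ ∀ A ∈ 𝒞, ¬ PiGrp {2} (𝐂 A)))) ∨
    (m = 4 ∧ q = 2 ∧ (IsA G 8 ∨ IsA G 9)) ∨ (m = 8 ∧ q = 2 ∧ Cfsg.Spor.IsoM24 G) ∨
      (m = 4 ∧ q = 4 ∧ (Cfsg.Spor.IsoM22 G ∨ Cfsg.Spor.IsoM23 G)) := by
  have H := h.toTIC
  rcases h.q_le.eq_or_lt with e | lt
  · subst e
    by_cases ca : ∀ A, CA 𝒞 q A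
    · by_cases m2 : q = 2
      · subst m2
        exact h.four.imp_right fun k => .inl ⟨rfl, rfl, k⟩
      obtain ⟨P, R, hP, -, -, e⟩ := h.ex
      obtain ⟨k, hk⟩ := (e ▸ (tic_pi H hP).inf_left : PiNat {2} q).exists_pow h.m_pos.ne'
      refine .inl (h.plane rfl ?_ ca)
      have := h.one
      rcases k with _ | _ | k <;> omega
    · obtain ⟨A, ca⟩ := not_forall.1 ca
      obtain ⟨V₀, V₁, p, n⟩ := h.not_ca ca
      exact .inr (.inr (.inr (.inr ⟨(h.m_four p n).1, (h.m_four p n).1, h.mathieu ca⟩)))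
  by_cases am : AM 𝒞 m
  · refine (h.big_am lt am).imp_right ?_
    rintro ⟨rfl, rfl⟩
    exact .inr (.inl ⟨rfl, rfl, h.eight⟩)
  have β := h.big lt
  obtain ⟨A, D, ad, n⟩ : ∃ A D, Adj 𝒞 A D ∧ ♯(A ⇂ D) < m := by
    by_contra! k
    exact am fun s => (h.dl_or s).resolve_right (k _ _ s).not_gt
  obtain ⟨V, B, n⟩ := β.exists_nm ad n
  obtain rfl := β.q_two n
  obtain ⟨U, s, l⟩ : ∃ U, Mb 𝒞 m A U ∧ ¬ A ⇂ D ≤ U := by
    by_contra! k
    obtain ⟨x, hx, hx'⟩ := h.exists_not n.toDl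
    have l : sInf {U | Mb 𝒞 m A U} ≤ V := sInf_le n.toDl.mb
    refine ad.nb (eq_bot_mono (h.irr A ad.hP) ((le_sInf k).trans (le_Is (l.trans n.le) (fun e => hx' (l (e.ge hx)))
      fun g hg => mem_norm_of_cj_le (le_sInf fun U s => cj_le_iff.2 (sInf_le (Mb.cj s H (im hg)))))))
  obtain rfl := (β.eight n s l).1
  exact h.sixteen.imp_right fun k => .inr (.inr (.inl ⟨rfl, rfl, k⟩))

theorem St.q_pow (h : St 𝒞 m q) : ∃ k, q = 2 ^ k := by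
  obtain ⟨P, R, hP, -⟩ := h.ex
  exact ((tic_pi h.toTIC hP).dvd (h.card hP ▸ dvd_mul_left q m)).exists_pow (by have := h.one_q; omega)

/-- the groups in the conclusion when there are adjacent members -/
def Lst (G : Type*) [Group G] : Prop :=
  (∃ (F : Type) (_ : Field F) (_ : Fintype F) (_ : CharP F 2) (n : ℕ), 3 ≤ n ∧
    Nonempty (G ≃* Matrix.ProjectiveSpecialLinearGroup (Fin n) F)) ∨ (∃ k, 6 ≤ k ∧ k ≤ 9 ∧ IsA G k) ∨
  Cfsg.Spor.IsoM22 G ∨ Cfsg.Spor.IsoM23 G ∨ Cfsg.Spor.IsoM24 G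

theorem IsL.char (h : IsL G q) (e : ∃ k, q = 2 ^ k) : ∃ (F : Type) (_ : Field F) (_ : Fintype F) (_ : CharP F 2) (n : ℕ),
    3 ≤ n ∧ Nonempty (G ≃* Matrix.ProjectiveSpecialLinearGroup (Fin n) F) :=
  let ⟨F, _, _, n, h1, h2, h3⟩ := h; let ⟨_, e⟩ := e
  ⟨F, _, inferInstance, BN.Suz.charP_of_card (h2.trans e), n, h1, h3⟩

theorem Gl.main (h : Gl 𝒞) : Bender.IsBender G ∨ Lst G := by
  rcases h.cases with ⟨ns, n⟩ | ⟨m, q, s⟩
  · exact .inl (h.bender ns n)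
  rcases s.main with k | ⟨-, -, k | k⟩ | ⟨-, -, k | k⟩ | ⟨-, -, k⟩ | ⟨-, -, k | k⟩
  exacts [.inr (.inl (k.char s.q_pow)), .inr (.inr (.inl ⟨6, by decide, by decide, k⟩)),
    .inr (.inr (.inl ⟨7, by decide, by decide, k.1⟩)), .inr (.inr (.inl ⟨8, by decide, by decide, k⟩)),
    .inr (.inr (.inl ⟨9, by decide, by decide, k⟩)), .inr (.inr (.inr (.inr (.inr k)))), .inr (.inr (.inr (.inl k))),
    .inr (.inr (.inr (.inr (.inl k))))]

theorem tic_tr (h : TIC 𝒞) (hP : P ∈ 𝒞) (hR : R ∈ 𝒞) : ∃ g, cj g P = R :=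
  let ⟨g, e⟩ := tic_two h hP (tic_pi h hR); ⟨g, (h.wc (h.cj g hP) hR e).symm⟩

theorem tic_O (h : TIC 𝒞) (hA : A ∈ 𝒞) : 𝐎 {2} ⊤ ≤ 𝐍 A := le_sup_right.trans
  (tic_norm h hA ((tic_pi h hA).sup (O_pi _ _) (.inl (le_top.trans (O_normal _ _).norm))) le_sup_left)

theorem tic_conj (sq : ∀ x ∈ B, x * x = 1) (ti : ∀ g, cj g B = B ∨ cj g B ⊓ B = ⊥)
    (wc : ∀ g, cj g B ≤ 𝐍 B → cj g B = B) : TIC {P | ∃ g, cj g B = P} where
  cj := by rintro _ g ⟨k, rfl⟩; exact ⟨_, (cj_cj _ _ _).symm⟩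
  sq := by rintro _ _ ⟨k, rfl⟩ ⟨x, hx, rfl⟩; exact (map_mul _ x x).symm.trans (by rw [sq x hx, map_one])
  ti := by
    rintro _ _ x ⟨g, rfl⟩ ⟨k, rfl⟩ h1 h2 x1
    rcases ti (k⁻¹ * g) with e | e
    · rw [← cj_cj_inv k (cj g B), cj_cj k⁻¹, e]
    · exact absurd (eq_one_of_mem_bot e (mem_inf.2 ⟨by rw [← cj_cj, mem_cj_inv]; simpa [mul_assoc] using h1, mem_cj.1 h2⟩))
        (by simpa using Ab2.conj_ne_one x1 k⁻¹)
  wc := by
    rintro _ _ ⟨g, rfl⟩ ⟨k, rfl⟩ e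
    rw [← cj_cj_inv g (cj k B), cj_cj g⁻¹, wc (g⁻¹ * k) (by rwa [← cj_cj, ← cj_norm_iff (g := g), cj_cj_inv])]

variable {G' : Type u} [Group G'] [Finite G'] {φ : G →* G'}

theorem tic_comap {𝒟 : Set (Subgroup G')} (h : TIC 𝒟) (i : Injective φ) : TIC {P : Subgroup G | P.map φ ∈ 𝒟} where
  cj g k := show (cj g _).map φ ∈ 𝒟 from (map_cj φ g _).symm ▸ h.cj _ k
  sq k hx := i (by rw [map_mul, map_one]; exact h.sq k (mem_map_of_mem φ hx))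
  ti k k' h1 h2 x1 := map_injective i (h.ti k k' (mem_map_of_mem φ h1) (mem_map_of_mem φ h2)
    ((map_ne_one_iff φ i).2 x1))
  wc k k' e := map_injective i (h.wc k k' (map_norm e φ))

/-- the images of the members -/
def Img (φ : G →* G') (𝒞 : Set (Subgroup G)) : Set (Subgroup G') := {P | ∃ A ∈ 𝒞, A.map φ = P}

theorem tic_map (h : TIC 𝒞) (sj : Surjective φ) (n : ∀ A ∈ 𝒞, φ.ker ≤ 𝐍 A) : TIC (Img φ 𝒞) where
  cj := by
    rintro _ g ⟨A, hA, rfl⟩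
    obtain ⟨g, rfl⟩ := sj g
    exact ⟨_, h.cj g hA, map_cj _ _ _⟩
  sq := by rintro _ _ ⟨A, hA, rfl⟩ ⟨x, hx, rfl⟩; rw [← map_mul, h.sq hA hx, map_one]
  ti := by
    rintro _ _ _ ⟨A, hA, rfl⟩ ⟨D, hD, rfl⟩ ⟨a, ha, rfl⟩ ⟨d, hd, e⟩ x1
    by_cases ne : A = D
    · rw [ne]
    have k : a⁻¹ * d ∈ φ.ker := by rw [MonoidHom.mem_ker, map_mul, map_inv, e, inv_mul_cancel]
    have dA : d ∈ 𝐍 A := (mul_mem_cancel_left (im (le_norm_self _ ha))).1 (n A hA k)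
    have ad : Adj 𝒞 A D := .mk' hA hD ne ha (by simpa using mm (le_norm_self _ hd) (im (n D hD k)))
      fun o => x1 (by rw [o, map_one])
    obtain ⟨x, hx, hx'⟩ := h.exists_notMem hA hD ne
    have nK : ∀ g, g ∈ 𝐍 φ.ker := fun g => le_normalizer_of_normal (mem_top g)
    obtain ⟨u, hu, o⟩ := (ad.bil h hx (C := D ⊓ φ.ker) (inf_le_inf_left _ (n A hA))).surj' (Z := A ⊓ φ.ker)
      (z := ⁅d, x⁆) (fun u hu => ⟨br_right hx (n A hA hu.2), br_left hu.2 (nK x)⟩)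
      (fun u hu => ad.fpf h hx' hu.1) (by
        obtain ⟨g, rfl⟩ := tic_tr h hA hD
        rw [← cj_of_norm (nK g), ← cj_inf, card_cj, cj_of_norm (nK g)]) ⟨br_right hx dA, by
        rw [← mul_inv_cancel_left a d, br_mul, br_one.2 (h.comm hA ha hx), mul_one]
        exact conj_mem_of_norm (nK a) (br_left k (nK x))⟩
    exact absurd (e.symm.trans (inv_mul_eq_one.1 (ad.fpf h hx' (mm (im hu.1) hd) (comm_of_br_eq o)) ▸ hu.2)) x1
  wc := by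
    rintro _ _ ⟨A, hA, rfl⟩ ⟨D, hD, rfl⟩ e
    have k : D ≤ 𝐍 (𝐎 {2} (A ⊔ φ.ker)) := le_norm_O _ fun d hd =>
      comap_map_eq φ A ▸ le_normalizer_comap φ (e (mem_map_of_mem φ hd))
    rw [h.wc hA hD (le_sup_left.trans (tic_norm h hA ((tic_pi h hD).sup (O_pi _ _) (.inl k))
      ((le_O (normalIn_sup_left (n A hA)) (tic_pi h hA)).trans le_sup_right)))]

/-- the members generate the group -/
structure Gn (𝒞 : Set (Subgroup G)) : Prop extends TIC 𝒞 where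
  gen : ∀ H : Subgroup G, (∀ A ∈ 𝒞, A ≤ H) → H = ⊤

theorem Gn.map (h : Gn 𝒞) (sj : Surjective φ) (n : ∀ A ∈ 𝒞, φ.ker ≤ 𝐍 A) : Gn (Img φ 𝒞) :=
  ⟨tic_map h.toTIC sj n, fun H k => comap_injective sj (h.gen _ fun A hA => map_le_iff_le_comap.1 (k _ ⟨A, hA, rfl⟩))⟩

theorem pi_comap {π : Set ℕ} {X : Subgroup G'} (sj : Surjective φ) (k : PiGrp π X) :
    PiNat π (φ.ker.relIndex (X.comap φ)) := by rwa [relIndex_ker, map_comap_eq_self_of_surjective sj]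

theorem Gn.cen (h : Gn 𝒞) (k : ∀ A ∈ 𝒞, K ≤ 𝐂 A) : K ≤ center G := fun x hx =>
  mem_center_iff.2 fun g => ((h.gen (𝐂 K) fun A hA => cent_symm (k A hA)).ge trivial x hx).symm

theorem O_center {π : Set ℕ} (h : 𝐎 π ⊤ ≤ center G) : 𝐎 π (⊤ : Subgroup (G ⧸ center G)) = ⊥ := by
  have sj := QuotientGroup.mk'_surjective (center G)
  have n := (normalIn_top.1 (O_normal π ⊤)).comap (QuotientGroup.mk' (center G))
  have i := pi_comap sj (O_pi π ⊤)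
  have l : center G ≤ (𝐎 π ⊤).comap (QuotientGroup.mk' (center G)) :=
    (QuotientGroup.ker_mk' _).ge.trans (ker_le_comap _ _)
  rw [QuotientGroup.ker_mk'] at i
  have c : ∀ {K H : Subgroup G}, K ≤ center G → H ≤ 𝐍 K ∧ K ≤ 𝐍 H := fun k =>
    have : _ ≤ 𝐂 _ := k.trans (center_le_centralizer _); ⟨norm_of_cent' this, norm_of_cent this⟩
  obtain ⟨H, d, k⟩ := (((Abel.nil (H := center G) (center_le_centralizer _)).hall_O πᶜ).trans_idx l
    i.compl_compl).exists_compl (c (O_le _ _)).1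
  rw [compl_compl] at k
  have : (𝐎 π ⊤).comap (QuotientGroup.mk' (center G)) ≤ center G := d.sup.ge.trans (sup_le (O_le _ _)
    ((k.O_eq (d.sup.ge.trans (sup_le (c (O_le _ _)).2 (le_norm_self _)))).ge.trans
      ((O_le_O_of_normal (normalIn_top.2 n) π).trans h)))
  rw [← map_comap_eq_self_of_surjective sj (𝐎 π ⊤), Subgroup.map_eq_bot_iff, QuotientGroup.ker_mk']
  exact this

theorem Gn.red (h : Gn 𝒞) (o : ∀ A ∈ 𝒞, A ⊓ 𝐎 {2} ⊤ = ⊥) :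
    IsMulCommutative (G ⧸ Cfsg.oddCore G) ∨ Gl (Img (QuotientGroup.mk' (center G)) 𝒞) := by
  have H := h.toTIC
  have c : ∀ {A K : Subgroup G} {k}, A ⊓ K = ⊥ → K ⊴ ⊤ → k ∈ K → k ∈ 𝐍 A → k ∈ 𝐂 A := fun e n hk hn a ha =>
    br_one.1 (eq_one_of_mem_bot e ⟨br_left ha hn, br_right hk (n.norm trivial)⟩)
  by_cases k : ∃ A ∈ 𝒞, 4 ≤ ♯A
  · obtain ⟨B, hB, k⟩ := k
    have k : ∀ A ∈ 𝒞, 4 ≤ ♯A := fun A hA => by obtain ⟨g, rfl⟩ := tic_tr H hB hA; rwa [card_cj]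
    have g := h.map (QuotientGroup.mk'_surjective (center G)) fun A _ =>
      (QuotientGroup.ker_mk' _).le.trans (norm_of_cent (center_le_centralizer _))
    refine .inr ⟨g.toTIC, tic_tr g.toTIC, ⟨_, B, hB, rfl⟩, ?_, O_center (h.cen fun A hA x hx =>
      c (o A hA) (O_normal _ _) hx (tic_O H hA hx)), O_center (h.cen fun A hA => Ab2.le_of_cent1
        ⟨tic_pi H hA, tic_abel H hA, fun a ha => (sq a).trans (h.sq hA ha)⟩ (k A hA)
        (le_top.trans (O_normal _ _).norm) (O_pi _ _) fun a ha a1 x hx => c ((tic_pi H hA).inf_eq_bot (O_pi _ _))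
          (O_normal _ _) hx.1 (h.norm_of_comm hA ha a1 (mem_cent1.1 hx.2))), g.gen⟩
    rintro _ ⟨A, hA, rfl⟩ e
    rw [Subgroup.map_eq_bot_iff, QuotientGroup.ker_mk'] at e
    have := k A hA
    rw [← inf_eq_left.2 (le_O ⟨le_top, norm_of_cent' (e.trans (center_le_centralizer _))⟩ (tic_pi H hA)), o A hA,
      card_bot] at this
    omega
  refine .inl ⟨⟨fun x y => ?_⟩⟩
  obtain ⟨x, rfl⟩ := QuotientGroup.mk'_surjective _ x
  refine (mem_center_iff.1 ((h.gen ((center _).comap (QuotientGroup.mk' (Cfsg.oddCore G))) fun A hA a ha => ?_).ge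
    (mem_top x)) y).symm
  by_cases a1 : a = 1
  · exact a1 ▸ one_mem _
  have c2 : ♯A = 2 := by
    obtain ⟨i, e⟩ := (tic_pi H hA).exists_pow (card_pos' A).ne'
    have := one_lt_card.2 (ne_bot_of_mem ha a1)
    have : ¬ 4 ≤ ♯A := fun e => k ⟨A, hA, e⟩
    rcases i with _ | _ | i <;> omega
  refine mem_center_iff.2 fun g => ?_
  obtain ⟨g, rfl⟩ := QuotientGroup.mk'_surjective _ g
  rw [eq_comm, ← mul_inv_eq_one, ← map_mul, ← map_mul, ← map_inv, ← map_mul, ← MonoidHom.mem_ker,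
    QuotientGroup.ker_mk', Cfsg.oddCore, pPrimeCore_eq Nat.prime_two]
  simpa [mul_assoc] using ZD.zstar_in ⟨a1, h.sq hA ha⟩ (mem_top a) (fun g _ e => by
    have n := Ab2.conj_ne_one a1 g
    refine two_eq c2 (h.wc hA (h.cj g hA) (fun y hy => ?_) ▸ conj_mem_cj.2 ha) ha n a1
    by_cases y1 : y = 1
    · exact y1 ▸ one_mem _
    · exact two_eq ((card_cj _ _).trans c2) hy (conj_mem_cj.2 ha) y1 n ▸ h.norm_of_comm hA ha a1 e.symm) (mem_top g)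

theorem Gn.red1 (h : Gn 𝒞) : ∃ N : Subgroup G, N.Normal ∧ (∀ x ∈ N, x * x = 1) ∧ ∀ _ : N.Normal,
    Gn (Img (QuotientGroup.mk' N) 𝒞) ∧ ∀ A ∈ Img (QuotientGroup.mk' N) 𝒞, A ⊓ 𝐎 {2} ⊤ = ⊥ := by
  have H := h.toTIC
  have l : closure {x | ∃ A ∈ 𝒞, x ∈ A ⊓ 𝐎 {2} ⊤} ≤ 𝐎 {2} ⊤ := (closure_le _).2 fun _ ⟨_, _, k⟩ => k.2
  refine ⟨closure {x | ∃ A ∈ 𝒞, x ∈ A ⊓ 𝐎 {2} ⊤}, normalIn_top.1 ⟨le_top, fun g _ => mem_norm_of_cj_le
    (cj_closure_le fun x ⟨A, hA, k⟩ => ⟨_, h.cj g hA, conj_mem_cj.2 k.1, conj_mem_of_norm ((O_normal _ _).norm trivial)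
      k.2⟩)⟩, closure_sq (fun _ ⟨_, hA, k⟩ => h.sq hA k.1) fun x ⟨A, hA, k⟩ y ⟨D, hD, k'⟩ => ?_, fun _ =>
    ⟨h.map (QuotientGroup.mk'_surjective _) fun A hA => (QuotientGroup.ker_mk' _).le.trans (l.trans (tic_O H hA)), ?_⟩⟩
  · by_cases e : A = D
    · exact h.comm hA k.1 (e ▸ k'.1)
    · exact h.comm_of hA hD e k.1 (tic_O H hD k.2) k'.1 (tic_O H hA k'.2)
  rintro _ ⟨A, hA, rfl⟩
  refine eq_bot_of_forall ?_
  rintro _ ⟨⟨a, ha, rfl⟩, k⟩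
  exact (QuotientGroup.eq_one_iff a).2 (subset_closure ⟨A, hA, ha, le_O (normalIn_top.2
    ((normalIn_top.1 (O_normal _ _)).comap _)) (((O_pi _ _).le ((QuotientGroup.ker_mk' _).le.trans l)).of_relIndex
      (pi_comap (QuotientGroup.mk'_surjective _) (O_pi _ _))) k⟩)

theorem gn_closure (h : TIC {P | ∃ g, cj g B = P}) :
    Gn {P : Subgroup (normalClosure (B : Set G)) | P.map (normalClosure (B : Set G)).subtype ∈ {P | ∃ g, cj g B = P}} :=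
  ⟨tic_comap h (subtype_injective _), fun H k => by
    have l : ∀ g, cj g B ≤ normalClosure (B : Set G) := fun g => cj_le_of_norm (le_normalizer_of_normal (mem_top g))
      le_normalClosure
    have : normalClosure (B : Set G) ≤ H.map (normalClosure (B : Set G)).subtype := (closure_le _).2 fun x hx => by
      obtain ⟨b, hb, e⟩ := Group.mem_conjugatesOfSet_iff.1 hx
      obtain ⟨g, rfl⟩ := isConj_iff.1 e
      exact ⟨⟨_, l g (conj_mem_cj.2 hb)⟩, k ((cj g B).subgroupOf _) ⟨g, (map_subgroupOf_eq_of_le (l g)).symm⟩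
        (conj_mem_cj.2 hb), rfl⟩
    exact eq_top_iff.2 fun x _ => by
      obtain ⟨y, hy, e⟩ := this x.2
      exact Subtype.ext e ▸ hy⟩

end CF.Geom.Tm
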